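import Groth.Agent.W4c1limliniiii.K807.Sep
import Groth.Agent.W4c1limliniiii.K807.Three
import Groth.Agent.W4c1limliniiii.K807.GenCount

/-!
# The four point count from the degeneration formula
-/

set_option autoImplicit false
universe u

open Polynomial

namespace K189.Four

open W4c1limliniiii K807 K807.Pencil K807.Three

variable {k : Type u} [Field k] [IsAlgClosed k]

omit [IsAlgClosed k] in
theorem empty_of_lt {d n : ℕ} {P : Fin n → k} {e : Fin n → ℕ} {i : Fin n} (hi : d < e i) :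
    ramMaps d P e = ∅ := by
  rw [Set.eq_empty_iff_forall_notMem]
  intro V hV
  obtain ⟨s, hs, hs0, hsm⟩ := (hV.2.2 i).1
  have h1 := natDegree_le_of_mem hV.1.1 hs
  have h2 := natDegree_le_of_dvd ((le_rootMultiplicity_iff hs0).1 hsm) hs0
  rw [(monic_X_sub_C _).natDegree_pow, natDegree_X_sub_C, mul_one] at h2
  omega

theorem empty_of_le (p : ℕ) [CharP k p] (hp0 : p ≠ 0) {d : ℕ} {P : Fin 3 → k}
    (hP : Function.Injective P) {e : Fin 3 → ℕ} (hed : ∀ i, e i ≤ d)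
    (hsum : (∑ i, e i) + 2 = 2 * d + 3) (h0 : e 0 ≤ p) (h1 : e 1 ≤ p) (hpd : p ≤ d) :
    ramMaps d P e = ∅ := by
  haveI : Fact p.Prime := ⟨(CharP.char_is_prime_or_zero k p).resolve_right hp0⟩
  set g : k[X] := (X - C (P 2)) ^ (d - p) with hg
  have hg0 : g ≠ 0 := pow_ne_zero _ (X_sub_C_ne_zero _)
  obtain ⟨a1, a2, a3⟩ := K807.Sep.insep p hg0
  have hgd : g.natDegree = d - p := by
    rw [hg, (monic_X_sub_C _).natDegree_pow, natDegree_X_sub_C, mul_one]
  have hS : Sch d P e (Submodule.span k {g * X ^ p, g}) := by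
    refine ⟨?_, a1, ?_⟩
    · apply K807.Pencil.le_degreeLE_of
      · rw [natDegree_mul_X_pow p hg0, hgd]; omega
      · rw [hgd]; omega
    · have hne : ∀ a : k, g * (X - C a) ^ p ≠ 0 := fun a =>
        mul_ne_zero hg0 (pow_ne_zero _ (X_sub_C_ne_zero _))
      intro i
      refine ⟨_, a3 (P i), hne _, (le_rootMultiplicity_iff (hne _)).2 ?_⟩
      fin_cases i
      · exact Dvd.dvd.mul_left (pow_dvd_pow _ h0) _
      · exact Dvd.dvd.mul_left (pow_dvd_pow _ h1) _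
      · show (X - C (P 2)) ^ (e 2) ∣ g * (X - C (P 2)) ^ p
        rw [hg, ← pow_add]
        exact pow_dvd_pow _ (by have := hed 2; omega)
  rw [Set.eq_empty_iff_forall_notMem]
  intro V' hV'
  have := eq_of_isPencil hP hed hsum (sch_of_mem hV') hV'.1 hS
  rw [this] at a2
  exact a2 hV'.2.1

theorem exists_eq (p : ℕ) [CharP k p] {d : ℕ} {P : Fin 3 → k}
    (hP : Function.Injective P) {e : Fin 3 → ℕ} (he1 : ∀ i, 1 ≤ e i) (hed : ∀ i, e i ≤ d)
    (hsum : (∑ i, e i) + 2 = 2 * d + 3) (hp : p = 0 ∨ d < p) :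
    ∃ V, ramMaps d P e = {V} := by
  obtain ⟨V, hV⟩ := exists_sch hP hed hsum
  have hsep := K807.Sep.isSeparable_of_lt p hp hV.1 hV.2.1
  have hmem : V ∈ ramMaps d P e := mem_ramMaps_of hP he1 hsum hV.1 hV.2.1 hsep hV.2.2
  refine ⟨V, Set.eq_singleton_iff_unique_mem.2 ⟨hmem, fun V' hV' => ?_⟩⟩
  exact eq_of_isPencil hP hed hsum (sch_of_mem hmem) hmem.1 (sch_of_mem hV')

/-- the three point count, all indices at least one -/
theorem three (p : ℕ) [CharP k p] (d : ℕ) (e : Fin 3 → ℕ) (he1 : ∀ i, 1 ≤ e i)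
    (hsum : (∑ i, e i) + 2 = 2 * d + 3) (h0 : p = 0 ∨ e 0 ≤ p) (h1 : p = 0 ∨ e 1 ≤ p) :
    HasGenericCount (k := k) d e
      (if (∀ i, e i ≤ d) ∧ (p = 0 ∨ d < p) then 1 else 0) := by
  classical
  refine ⟨K807.GenCount.vdm k 3, K807.GenCount.vdm_ne_zero k 3, fun P hP' => ?_⟩
  have hP := K807.GenCount.injective_of_vdm hP'
  by_cases hed : ∀ i, e i ≤ d
  · by_cases hp : p = 0 ∨ d < p
    · rw [if_pos ⟨hed, hp⟩]
      obtain ⟨V, hV⟩ := exists_eq p hP he1 hed hsum hp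
      rw [hV]
      exact ⟨Set.finite_singleton V, by simp⟩
    · rw [if_neg (fun h => hp h.2)]
      push Not at hp
      rw [empty_of_le p hp.1 hP hed hsum (h0.resolve_left hp.1) (h1.resolve_left hp.1) hp.2]
      exact ⟨Set.finite_empty, by simp⟩
  · rw [if_neg (fun h => hed h.1)]
    push Not at hed
    obtain ⟨i, hi⟩ := hed
    rw [empty_of_lt hi]
    exact ⟨Set.finite_empty, by simp⟩

theorem snoc_four (e : Fin 4 → ℕ) :
    (Fin.snoc (Fin.snoc ![e 0, e 1] (e 2) : Fin 3 → ℕ) (e 3) : Fin 4 → ℕ) = e := by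
  funext i
  fin_cases i <;> rfl

theorem snoc_three (a b c : ℕ) : (Fin.snoc ![a, b] c : Fin 3 → ℕ) = ![a, b, c] := by
  funext i
  fin_cases i <;> rfl

theorem arith_mem (p d a b x y t : ℕ) (hp0 : p ≠ 0) (ha : 2 ≤ a) (ha' : a ≤ d) (hb : 2 ≤ b)
    (hb' : b ≤ d) :
    (((max (d + 1 - a) (d + 1 - b) ≤ t ∧ t ≤ d) ∧ (p = 0 ∨ t + a + b ≤ p + d)) ∧
      (x ≤ t ∧ y ≤ t ∧ 2 * t + a + b - (2 * d + 1) ≤ t) ∧ (p = 0 ∨ t < p)) ↔
    (max (max (d + 1 - a) (d + 1 - b)) (max x y) ≤ t ∧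
      t ≤ min (min d (2 * d + 1 - a - b)) (min (p - 1) (p + d - a - b))) := by
  simp only [max_le_iff, le_min_iff, hp0, false_or]
  constructor
  · rintro ⟨⟨⟨⟨h1, h2⟩, h3⟩, h4⟩, ⟨h5, h6, h7⟩, h8⟩
    refine ⟨⟨⟨h1, h2⟩, h5, h6⟩, ⟨h3, ?_⟩, ?_, ?_⟩
    · clear h8 h4 hp0; omega
    · clear h4; omega
    · clear h7 h8; omega
  · rintro ⟨⟨⟨h1, h2⟩, h5, h6⟩, ⟨h3, h7⟩, h8, h4⟩
    refine ⟨⟨⟨⟨h1, h2⟩, h3⟩, ?_⟩, ⟨h5, h6, ?_⟩, ?_⟩
    · clear h7 h8; omega
    · clear h8 h4; omega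
    · clear h7 h4; omega

theorem arith_mem' (p d a b x y t : ℕ) (hp0 : p = 0) (ha : 2 ≤ a) (ha' : a ≤ d) (hb : 2 ≤ b)
    (hb' : b ≤ d) :
    (((max (d + 1 - a) (d + 1 - b) ≤ t ∧ t ≤ d) ∧ (p = 0 ∨ t + a + b ≤ p + d)) ∧
      (x ≤ t ∧ y ≤ t ∧ 2 * t + a + b - (2 * d + 1) ≤ t) ∧ (p = 0 ∨ t < p)) ↔
    (max (max (d + 1 - a) (d + 1 - b)) (max x y) ≤ t ∧
      t ≤ min d (2 * d + 1 - a - b)) := by
  simp only [max_le_iff, le_min_iff, hp0, true_or, and_true]
  constructor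
  · rintro ⟨⟨⟨h1, h2⟩, h3⟩, ⟨h5, h6, h7⟩⟩
    exact ⟨⟨⟨h1, h2⟩, h5, h6⟩, h3, by omega⟩
  · rintro ⟨⟨⟨h1, h2⟩, h5, h6⟩, h3, h7⟩
    exact ⟨⟨⟨h1, h2⟩, h3⟩, ⟨h5, h6, by omega⟩⟩

theorem arith_card' (d a b x y : ℕ) (ha : 2 ≤ a) (ha' : a ≤ d) (hb : 2 ≤ b)
    (hb' : b ≤ d) (hx : 2 ≤ x) (hx' : x ≤ d) (hy : 2 ≤ y) (hy' : y ≤ d)
    (hs : x + y + a + b + 2 = 2 * d + 4) :
    min (min (min (min x (d + 1 - x)) (min y (d + 1 - y))) (min a (d + 1 - a)))
      (min b (d + 1 - b)) =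
    min d (2 * d + 1 - a - b) + 1 - max (max (d + 1 - a) (d + 1 - b)) (max x y) := by
  apply le_antisymm
  · have m1 := min_le_right (min (min (min x (d + 1 - x)) (min y (d + 1 - y))) (min a (d + 1 - a)))
      (min b (d + 1 - b))
    have m2 := min_le_left (min (min (min x (d + 1 - x)) (min y (d + 1 - y))) (min a (d + 1 - a)))
      (min b (d + 1 - b))
    generalize min (min (min (min x (d + 1 - x)) (min y (d + 1 - y))) (min a (d + 1 - a)))
      (min b (d + 1 - b)) = M at m1 m2 ⊢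
    simp only [le_min_iff] at m1 m2
    obtain ⟨c1, c2⟩ := m1
    obtain ⟨⟨⟨c3, c4⟩, c5, c6⟩, c7, c8⟩ := m2
    rcases le_total d (2 * d + 1 - a - b) with h | h
    · rw [min_eq_left h]
      rcases max_cases (max (d + 1 - a) (d + 1 - b)) (max x y) with ⟨h1, -⟩ | ⟨h1, -⟩ <;> rw [h1]
      · rcases max_cases (d + 1 - a) (d + 1 - b) with ⟨h2, -⟩ | ⟨h2, -⟩ <;> rw [h2] <;>
          clear h1 h2 <;> omega
      · rcases max_cases x y with ⟨h2, -⟩ | ⟨h2, -⟩ <;> rw [h2] <;>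
          clear h1 h2 <;> omega
    · rw [min_eq_right h]
      rcases max_cases (max (d + 1 - a) (d + 1 - b)) (max x y) with ⟨h1, -⟩ | ⟨h1, -⟩ <;> rw [h1]
      · rcases max_cases (d + 1 - a) (d + 1 - b) with ⟨h2, -⟩ | ⟨h2, -⟩ <;> rw [h2] <;>
          clear h1 h2 <;> omega
      · rcases max_cases x y with ⟨h2, -⟩ | ⟨h2, -⟩ <;> rw [h2] <;>
          clear h1 h2 <;> omega
  · have k1 : min d (2 * d + 1 - a - b) ≤ d := min_le_left _ _
    have k2 : min d (2 * d + 1 - a - b) ≤ 2 * d + 1 - a - b := min_le_right _ _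
    have k3 : d + 1 - a ≤ max (max (d + 1 - a) (d + 1 - b)) (max x y) :=
      (le_max_left _ _).trans (le_max_left _ _)
    have k4 : d + 1 - b ≤ max (max (d + 1 - a) (d + 1 - b)) (max x y) :=
      (le_max_right _ _).trans (le_max_left _ _)
    have k5 : x ≤ max (max (d + 1 - a) (d + 1 - b)) (max x y) :=
      (le_max_left _ _).trans (le_max_right _ _)
    have k6 : y ≤ max (max (d + 1 - a) (d + 1 - b)) (max x y) :=
      (le_max_right _ _).trans (le_max_right _ _)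
    generalize min d (2 * d + 1 - a - b) = U at *
    generalize max (max (d + 1 - a) (d + 1 - b)) (max x y) = L at *
    simp only [le_min_iff]
    refine ⟨⟨⟨⟨?_, ?_⟩, ?_, ?_⟩, ?_, ?_⟩, ?_, ?_⟩ <;> omega

theorem arith_card (p d a b x y : ℕ) (hp0 : p ≠ 0) (ha : 2 ≤ a) (ha' : a ≤ d) (hb : 2 ≤ b)
    (hb' : b ≤ d) (hx : 2 ≤ x) (hx' : x ≤ d) (hy : 2 ≤ y) (hy' : y ≤ d)
    (hs : x + y + a + b + 2 = 2 * d + 4) :
    min (min (min (min x (d + 1 - x)) (min y (d + 1 - y))) (min a (d + 1 - a)))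
      (min b (d + 1 - b)) - (d + 1 - p) =
    min (min d (2 * d + 1 - a - b)) (min (p - 1) (p + d - a - b)) + 1 -
      max (max (d + 1 - a) (d + 1 - b)) (max x y) := by
  rw [arith_card' d a b x y ha ha' hb hb' hx hx' hy hy' hs]
  have k0 : d + 1 - a ≤ max (max (d + 1 - a) (d + 1 - b)) (max x y) :=
      (le_max_left _ _).trans (le_max_left _ _)
  have k0' : d + 1 - b ≤ max (max (d + 1 - a) (d + 1 - b)) (max x y) :=
      (le_max_right _ _).trans (le_max_left _ _)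
  generalize max (max (d + 1 - a) (d + 1 - b)) (max x y) = L at *
  rcases le_total d (2 * d + 1 - a - b) with h | h
  · rw [min_eq_left h]
    rcases le_total (p - 1) (p + d - a - b) with h' | h'
    · rw [min_eq_left h']
      rcases le_total d (p - 1) with h'' | h''
      · rw [min_eq_left h'']; omega
      · rw [min_eq_right h'']; omega
    · rw [min_eq_right h']
      rcases le_total d (p + d - a - b) with h'' | h''
      · rw [min_eq_left h'']; omega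
      · rw [min_eq_right h'']; omega
  · rw [min_eq_right h]
    rcases le_total (p - 1) (p + d - a - b) with h' | h'
    · rw [min_eq_left h']
      rcases le_total (2 * d + 1 - a - b) (p - 1) with h'' | h''
      · rw [min_eq_left h'']; omega
      · rw [min_eq_right h'']; omega
    · rw [min_eq_right h']
      rcases le_total (2 * d + 1 - a - b) (p + d - a - b) with h'' | h''
      · rw [min_eq_left h'']; omega
      · rw [min_eq_right h'']; omega

theorem inf_eq (d : ℕ) (e : Fin 4 → ℕ) :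
    Finset.univ.inf' Finset.univ_nonempty (fun i => min (e i) (d + 1 - e i)) =
      min (min (min (min (e 0) (d + 1 - e 0)) (min (e 1) (d + 1 - e 1)))
        (min (e 2) (d + 1 - e 2))) (min (e 3) (d + 1 - e 3)) := by
  apply le_antisymm
  · simp only [le_min_iff]
    have h := fun i : Fin 4 => Finset.inf'_le (fun i => min (e i) (d + 1 - e i))
      (Finset.mem_univ i)
    have h0 := h 0
    have h1 := h 1
    have h2 := h 2
    have h3 := h 3
    simp only [le_min_iff] at h0 h1 h2 h3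
    exact ⟨⟨⟨h0, h1⟩, h2⟩, h3⟩
  · refine Finset.le_inf' _ _ fun i _ => ?_
    fin_cases i
    · exact (min_le_left _ _).trans ((min_le_left _ _).trans (min_le_left _ _))
    · exact (min_le_left _ _).trans ((min_le_left _ _).trans (min_le_right _ _))
    · exact (min_le_left _ _).trans (min_le_right _ _)
    · exact min_le_right _ _


theorem four (p : ℕ) [CharP k p] (d : ℕ) (e : Fin 4 → ℕ) (he : Admissible p d e)
    (hlt : ∀ i, p = 0 ∨ e i < p)
    (H : ∀ R : Finset ℕ, R = (Finset.Icc (max (d + 1 - e 2) (d + 1 - e 3)) d).filter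
        (fun d' => p = 0 ∨ d' + e 2 + e 3 ≤ p + d) →
      ∀ m : ℕ → ℕ, (∀ d' ∈ R, HasGenericCount (k := k) d'
        (Fin.snoc ![e 0, e 1] (2 * d' + e 2 + e 3 - (2 * d + 1)) : Fin 3 → ℕ) (m d')) →
        HasGenericCount (k := k) d
          (Fin.snoc (Fin.snoc ![e 0, e 1] (e 2) : Fin 3 → ℕ) (e 3) : Fin 4 → ℕ)
          (∑ d' ∈ R, m d')) :
    (p ≠ 0 → HasGenericCount (k := k) d e
      (Finset.univ.inf' Finset.univ_nonempty (fun i => min (e i) (d + 1 - e i)) - (d + 1 - p))) ∧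
    (p = 0 → HasGenericCount (k := k) d e
      (Finset.univ.inf' Finset.univ_nonempty (fun i => min (e i) (d + 1 - e i)))) := by
  classical
  obtain ⟨he0, hes⟩ := he
  rw [Fin.sum_univ_four] at hes
  have b0 := he0 0
  have b1 := he0 1
  have b2 := he0 2
  have b3 := he0 3
  have l0 := hlt 0
  have l1 := hlt 1
  have l2 := hlt 2
  have l3 := hlt 3
  obtain ⟨R, hR⟩ : ∃ R : Finset ℕ, R = (Finset.Icc (max (d + 1 - e 2) (d + 1 - e 3)) d).filter
      (fun d' => p = 0 ∨ d' + e 2 + e 3 ≤ p + d) := ⟨_, rfl⟩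
  have H3 := H R hR (fun d' => if (∀ i, (![e 0, e 1, 2 * d' + e 2 + e 3 - (2 * d + 1)] :
      Fin 3 → ℕ) i ≤ d') ∧ (p = 0 ∨ d' < p) then 1 else 0) (by
    intro d' hd'
    rw [hR, Finset.mem_filter, Finset.mem_Icc] at hd'
    rw [snoc_three]
    refine three p d' _ ?_ ?_ ?_ ?_
    · intro i
      fin_cases i
      · show 1 ≤ e 0
        omega
      · show 1 ≤ e 1
        omega
      · show 1 ≤ 2 * d' + e 2 + e 3 - (2 * d + 1)
        omega
    · rw [Fin.sum_univ_three]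
      show e 0 + e 1 + (2 * d' + e 2 + e 3 - (2 * d + 1)) + 2 = 2 * d' + 3
      omega
    · show p = 0 ∨ e 0 ≤ p
      omega
    · show p = 0 ∨ e 1 ≤ p
      omega)
  rw [snoc_four, Finset.sum_ite, Finset.sum_const_zero, add_zero, Finset.sum_const, smul_eq_mul,
    mul_one] at H3
  have hmem : ∀ d', (∀ i, (![e 0, e 1, 2 * d' + e 2 + e 3 - (2 * d + 1)] :
      Fin 3 → ℕ) i ≤ d') ↔ e 0 ≤ d' ∧ e 1 ≤ d' ∧ 2 * d' + e 2 + e 3 - (2 * d + 1) ≤ d' := by
    intro d'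
    constructor
    · intro h
      exact ⟨h 0, h 1, h 2⟩
    · rintro ⟨h0, h1, h2⟩ i
      fin_cases i
      · exact h0
      · exact h1
      · exact h2
  constructor
  · intro hp0
    have hF : (Finset.filter (fun d' => (∀ i, (![e 0, e 1, 2 * d' + e 2 + e 3 - (2 * d + 1)] :
      Fin 3 → ℕ) i ≤ d') ∧ (p = 0 ∨ d' < p)) R) =
        Finset.Icc (max (max (d + 1 - e 2) (d + 1 - e 3)) (max (e 0) (e 1)))
          (min (min d (2 * d + 1 - e 2 - e 3)) (min (p - 1) (p + d - e 2 - e 3))) := by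
      ext d'
      rw [Finset.mem_filter, hmem, hR, Finset.mem_filter, Finset.mem_Icc, Finset.mem_Icc]
      exact arith_mem p d (e 2) (e 3) (e 0) (e 1) d' hp0 b2.1 b2.2.1 b3.1 b3.2.1
    rw [hF, Nat.card_Icc] at H3
    rwa [inf_eq, arith_card p d (e 2) (e 3) (e 0) (e 1) hp0 b2.1 b2.2.1 b3.1 b3.2.1 b0.1 b0.2.1 b1.1
      b1.2.1 hes]
  · intro hp0
    have hF : (Finset.filter (fun d' => (∀ i, (![e 0, e 1, 2 * d' + e 2 + e 3 - (2 * d + 1)] :
      Fin 3 → ℕ) i ≤ d') ∧ (p = 0 ∨ d' < p)) R) =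
        Finset.Icc (max (max (d + 1 - e 2) (d + 1 - e 3)) (max (e 0) (e 1)))
          (min d (2 * d + 1 - e 2 - e 3)) := by
      ext d'
      rw [Finset.mem_filter, hmem, hR, Finset.mem_filter, Finset.mem_Icc, Finset.mem_Icc]
      exact arith_mem' p d (e 2) (e 3) (e 0) (e 1) d' hp0 b2.1 b2.2.1 b3.1 b3.2.1
    rw [hF, Nat.card_Icc] at H3
    rwa [inf_eq, arith_card' d (e 2) (e 3) (e 0) (e 1) b2.1 b2.2.1 b3.1 b3.2.1 b0.1 b0.2.1 b1.1
      b1.2.1 hes]

end K189.Four
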