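import Groth.Agent.W4c1limliniiii.K189.Uniq
import Groth.Agent.W4c1limliniiii.K807.LGRep

/-!
Any scheme representing the linked Grassmannian functor is proper over the base, and of finite
presentation if the base is Noetherian.
-/

set_option autoImplicit false
universe u v w
open AlgebraicGeometry CategoryTheory W4c1limliniiii

namespace K189.Fin

variable {R : Type u} [CommRing R] {d r n : ℕ} {f g : Fin n → ((Fin d → R) →ₗ[R] (Fin d → R))}
  {X : Over (Spec (CommRingCat.of R))}

theorem isProper_hom
    (e : ∀ A : CommAlgCat.{u} R,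
      (Over.mk (Spec.map (CommRingCat.ofHom (algebraMap R A))) ⟶ X) ≃ LGPoints R d r n f g A)
    (he : ∀ (A B : CommAlgCat.{u} R) (φ : A ⟶ B)
      (x : Over.mk (Spec.map (CommRingCat.ofHom (algebraMap R A))) ⟶ X)
      (x' : Over.mk (Spec.map (CommRingCat.ofHom (algebraMap R B))) ⟶ X),
      x'.left = Spec.map (CommRingCat.ofHom φ.hom.toRingHom) ≫ x.left →
        ∀ i, (e B x').1 i = Module.Grassmannian.map φ.hom ((e A x).1 i)) :
    IsProper X.hom := by
  obtain ⟨X', e', he', hX'⟩ := K807.LGRep.exists_rep R d r n f g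
  obtain ⟨i, -⟩ := K189.Uniq.exists_iso (X := X) (X' := X') (fun A => (e A).trans (e' A).symm) (by
    intro A B φ x x' h
    let y := (e' A).symm (e A x)
    let y' : Over.mk (Spec.map (CommRingCat.ofHom (algebraMap R B))) ⟶ X' :=
      Over.homMk (Spec.map (CommRingCat.ofHom φ.hom.toRingHom) ≫ y.left) (by
      rw [Category.assoc]
      refine (congrArg (Spec.map (CommRingCat.ofHom φ.hom.toRingHom) ≫ ·) (Over.w y)).trans ?_
      refine (Spec.map_comp _ _).symm.trans ?_
      exact congrArg (fun F => Spec.map (CommRingCat.ofHom F)) φ.hom.comp_algebraMap)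
    have h1 : e' B y' = e B x' := by
      apply Subtype.ext
      funext j
      rw [he' A B φ y y' rfl, he A B φ x x' h, Equiv.apply_symm_apply]
    have h2 : (e' B).symm (e B x') = y' := by rw [← h1, Equiv.symm_apply_apply]
    change ((e' B).symm (e B x')).left = _
    rw [h2]
    rfl)
  have h3 : i.hom.left ≫ X'.hom = X.hom := Over.w i.hom
  rw [← h3]
  haveI : IsIso i.hom.left := inferInstanceAs (IsIso ((Over.forget _).map i.hom))
  infer_instance

theorem locallyOfFinitePresentation [IsNoetherianRing R]
    (e : ∀ A : CommAlgCat.{u} R,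
      (Over.mk (Spec.map (CommRingCat.ofHom (algebraMap R A))) ⟶ X) ≃ LGPoints R d r n f g A)
    (he : ∀ (A B : CommAlgCat.{u} R) (φ : A ⟶ B)
      (x : Over.mk (Spec.map (CommRingCat.ofHom (algebraMap R A))) ⟶ X)
      (x' : Over.mk (Spec.map (CommRingCat.ofHom (algebraMap R B))) ⟶ X),
      x'.left = Spec.map (CommRingCat.ofHom φ.hom.toRingHom) ≫ x.left →
        ∀ i, (e B x').1 i = Module.Grassmannian.map φ.hom ((e A x).1 i)) :
    LocallyOfFinitePresentation X.hom := by
  have := isProper_hom e he
  have h : IsLocallyNoetherian (Spec (CommRingCat.of R)) := inferInstance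
  exact LocallyOfFinitePresentation.iff_locallyOfFiniteType.2 inferInstance

end K189.Fin
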