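import Groth.Agent.W4c1limliniiii.K189.Upper
import Groth.Agent.W4c1limliniiii.K189.Fin
import Groth.Agent.W4c1limliniiii.K678.Final

/-!
The dimension of the irreducible components of a linked Grassmannian over a field.
-/

set_option autoImplicit false
universe u

open Module CategoryTheory AlgebraicGeometry
open Groth.Agent.CycB.TrdegAlg

namespace K189.Dim

open K652.AffYoneda Groth.Agent.Fga.GrassBasic K678.LG K678.LocSpan K678.Exact K678.Pts K678.Types
  K678.Comp K189.Chain K189.Ech K189.Trd K189.Upper W4c1limliniiii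

variable {k : Type u} [Field k] {d r n : ℕ} {f g : Fin n → ((Fin d → k) →ₗ[k] (Fin d → k))} {s : k}
  {X : Over (Spec (CommRingCat.of k))}

theorem le_trd_aux (D : Data X d (d - r) n f g) (hr : r ≤ d) (τ : Fin r → ℕ) (hτ : ∀ a, τ a ≤ n)
    {F : Type u} [Field F] (ψ : k →+* F) (t₀ : Spec (CommRingCat.of F) ⟶ X.left)
    (ht₀ : t₀ ≫ X.hom = Spec.map (CommRingCat.ofHom ψ))
    (φ : F →+* FractionRing (GenR k r d))
    (hT : (Spec.map (CommRingCat.ofHom φ) ≫ t₀) ≫ X.hom =
      Spec.map (CommRingCat.ofHom ((algebraMap (GenR k r d) (FractionRing (GenR k r d))).comp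
      MvPolynomial.C)))
    (hL : ∀ i ≤ n, D.L (Spec.map (CommRingCat.ofHom φ) ≫ t₀) i = spanT
      (ext f ((algebraMap (GenR k r d) (FractionRing (GenR k r d))).comp MvPolynomial.C))
      (ext g ((algebraMap (GenR k r d) (FractionRing (GenR k r d))).comp MvPolynomial.C)) τ
      (fun a => mapV (algebraMap (GenR k r d) (FractionRing (GenR k r d))) (gen k r d a)) i) :
    (r * (d - r) : ℕ) ≤ trd ψ := by
  have hech : ∀ a : Fin r, ∃ (ρ : Fin r → Fin d) (v : Fin r → Fin d → F), (∀ b, v b ∈ D.L t₀ (τ a)) ∧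
      (∀ b b', v b (ρ b') = if b = b' then 1 else 0) ∧
      Submodule.span F (Set.range v) = D.L t₀ (τ a) :=
    fun a => exists_ech (K := F) (D.L t₀ (τ a)) (finrank_L D hr t₀ (hτ a))
  choose ρ v hv hδ hvspan using hech
  let q : GenR k r d →+* FractionRing (GenR k r d) := algebraMap _ _
  let c : Fin r → Fin d → FractionRing (GenR k r d) := fun a => mapV q (gen k r d a)
  have hψ : φ.comp ψ = q.comp MvPolynomial.C := by
    have h1 : CommRingCat.ofHom ψ ≫ CommRingCat.ofHom φ = CommRingCat.ofHom (q.comp MvPolynomial.C) := by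
      apply Spec.map_injective
      rw [Spec.map_comp, ← ht₀, ← hT, Category.assoc]
    exact congrArg (fun F => F.hom) h1
  have hc : ∀ a, c a ∈ bc φ (D.L t₀ (τ a)) := by
    intro a
    have h1 := D.nat (CommRingCat.ofHom φ) t₀ (τ a) (hτ a)
    rw [hL (τ a) (hτ a)] at h1
    have h2 : c a ∈ bc (CommRingCat.ofHom φ).hom (D.L t₀ (τ a)) := by
      rw [← h1]
      have h3 := push_mem_spanT (F := ext f (q.comp MvPolynomial.C)) (G := ext g (q.comp MvPolynomial.C))
        (τ := τ) (c := c) (τ a) a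
      rwa [push_self] at h3
    exact h2
  have h1 : trd φ ≤ (r * r : ℕ) := by
    have h2 := trd_le_of_generated φ (fun ab : Fin r × Fin r => c ab.1 (ρ ab.1 ab.2)) (by
      intro S hS1 hS2
      apply subfield_eq_top_of_ratfun
      · intro a
        apply hS1
        refine ⟨ψ a, ?_⟩
        exact RingHom.congr_fun hψ a
      · rintro ⟨a, l⟩
        have h3 := congrFun (eq_sum φ (hδ a) (hvspan a) (hc a)) l
        have h4 : c a l = q (MvPolynomial.X (a, l)) := rfl
        change q (MvPolynomial.X (a, l)) ∈ S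
        rw [← h4, h3, Finset.sum_apply]
        refine sum_mem fun b _ => ?_
        exact mul_mem (hS2 (a, b)) (hS1 ⟨v a b l, rfl⟩))
    rwa [Fintype.card_prod, Fintype.card_fin] at h2
  have h2 : trd (φ.comp ψ) = (r * d : ℕ) := by
    rw [hψ]
    have h3 : q.comp MvPolynomial.C = algebraMap k (FractionRing (GenR k r d)) :=
      (IsScalarTower.algebraMap_eq k (GenR k r d) (FractionRing (GenR k r d))).symm
    rw [h3, trd_ratfun, Fintype.card_prod, Fintype.card_fin, Fintype.card_fin]
  rw [trd_comp] at h2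
  have h3 : trd ψ < Cardinal.aleph0 :=
    ((self_le_add_right _ _).trans h2.le).trans_lt Cardinal.natCast_lt_aleph0
  obtain ⟨m, hm⟩ := Cardinal.lt_aleph0.1 h3
  obtain ⟨m', hm'⟩ := Cardinal.lt_aleph0.1 (h1.trans_lt Cardinal.natCast_lt_aleph0)
  rw [hm, hm'] at h2
  rw [hm'] at h1
  rw [hm]
  have h4 : m + m' = r * d := by exact_mod_cast h2
  have h5 : m' ≤ r * r := by exact_mod_cast h1
  have h6 : r * (d - r) ≤ m := by
    rw [Nat.mul_sub]
    omega
  exact_mod_cast h6

theorem le_trd (D : Data X d (d - r) n f g) (hr : r ≤ d) (τ : Fin r → ℕ) (hτ : ∀ a, τ a ≤ n)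
    (x : X.left) (hx : IsXi D τ x) (ψ : k →+* X.left.residueField x)
    (hψ : X.left.fromSpecResidueField x ≫ X.hom = Spec.map (CommRingCat.ofHom ψ)) :
    (r * (d - r) : ℕ) ≤ trd ψ := by
  obtain ⟨T, rfl, hT, hL⟩ := hx
  obtain ⟨φ, hφ⟩ := exists_factor T
  rw [← hφ] at hT
  refine le_trd_aux D hr τ hτ (F := X.left.residueField (im T)) ψ
    (X.left.fromSpecResidueField (im T)) hψ φ.hom hT ?_
  intro i hi
  rw [← hL i hi]
  exact congrArg (fun t => D.L t i) hφ

/-- **Dimension of the components.** -/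
theorem dim_component (hr : r ≤ d)
    (hI : ∀ i, (f i).comp (g i) = s • LinearMap.id ∧ (g i).comp (f i) = s • LinearMap.id)
    (hII : ∀ i, d ≤ Module.finrank k (LinearMap.range (f i)) + Module.finrank k (LinearMap.range (g i)))
    (hIII : ∀ i j : Fin n, i.val + 1 = j.val →
      LinearMap.range (f i) ⊓ LinearMap.ker (f j) = ⊥ ∧
        LinearMap.range (g j) ⊓ LinearMap.ker (g i) = ⊥)
    (e : ∀ A : CommAlgCat.{u} k,
      (Over.mk (Spec.map (CommRingCat.ofHom (algebraMap k A))) ⟶ X) ≃ LGPoints k d r n f g A)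
    (he : ∀ (A B : CommAlgCat.{u} k) (φ : A ⟶ B)
      (x : Over.mk (Spec.map (CommRingCat.ofHom (algebraMap k A))) ⟶ X)
      (x' : Over.mk (Spec.map (CommRingCat.ofHom (algebraMap k B))) ⟶ X),
      x'.left = Spec.map (CommRingCat.ofHom φ.hom.toRingHom) ≫ x.left →
        ∀ i, (e B x').1 i = Module.Grassmannian.map φ.hom ((e A x).1 i))
    (Z : Set X.left) (hZ : Z ∈ irreducibleComponents X.left) :
    topologicalKrullDim Z = (r * (d - r) : ℕ) := by
  obtain ⟨D, -⟩ := exists_data e he
  have hyp := K678.Final.hyp_of_field hI hII hIII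
  have hprop := K189.Fin.isProper_hom e he
  obtain ⟨ζ, rfl, hgen⟩ := exists_generic hZ
  obtain ⟨y, hy1, hy2⟩ := exists_exact D hr hyp ζ
  obtain rfl := hgen y hy1
  let ψ : k →+* X.left.residueField y := (str X (X.left.fromSpecResidueField y)).hom
  have hψ : X.left.fromSpecResidueField y ≫ X.hom = Spec.map (CommRingCat.ofHom ψ) :=
    (map_str X _).symm
  have h := hyp (X.left.residueField y) ψ
  obtain ⟨τ, c, hτ, hc, hc'⟩ := exists_span (K := X.left.residueField y) h.hFG h.hGF h.hIII
    (linked D _) hy2 (fun i hi => finrank_L (K := X.left.residueField y) D hr _ hi)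
  have hup := trd_le_aux D hr hI (F := X.left.residueField y) ψ (X.left.fromSpecResidueField y) hψ
    (fun t' ι j h => factor_of_def y t' ι j h) τ c hτ hc hc'
  have hty : HasType D τ y := hasType_of_specializes D hr specializes_rfl hτ hc hc'
  have hxi := isXi_of_generic D hr hI hτ hty hgen
  have hlow := le_trd D hr τ hτ y hxi ψ hψ
  exact dim_closure_eq X.hom y ψ hψ _ (le_antisymm hup hlow)

end K189.Dim
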