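import Mathlib.LinearAlgebra.Span.Basic
import Mathlib.Tactic.Abel

/-!
Chains of linear maps forward and backward: pushing a vector from a vertex to another one.
-/

set_option autoImplicit false

namespace K189.Chain

variable {A : Type*} [CommRing A] {M : Type*} [AddCommGroup M] [Module A M]

/-- `l` steps forward from `j` -/
def fw (F : ℕ → (M →ₗ[A] M)) (j : ℕ) : ℕ → (M →ₗ[A] M)
  | 0 => LinearMap.id
  | l + 1 => F (j + l) ∘ₗ fw F j l

/-- `l` steps backward, arriving at `i` -/
def bw (G : ℕ → (M →ₗ[A] M)) (i : ℕ) : ℕ → (M →ₗ[A] M)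
  | 0 => LinearMap.id
  | l + 1 => bw G i l ∘ₗ G (i + l)

theorem bw_succ' (G : ℕ → (M →ₗ[A] M)) (i l : ℕ) : bw G i (l + 1) = G i ∘ₗ bw G (i + 1) l := by
  induction l with
  | zero => simp [bw]
  | succ l ih =>
    rw [bw, ih, bw, LinearMap.comp_assoc, show i + 1 + l = i + (l + 1) by omega]

/-- from vertex `j` to vertex `i` -/
def push (F G : ℕ → (M →ₗ[A] M)) (j i : ℕ) : M →ₗ[A] M :=
  if j ≤ i then fw F j (i - j) else bw G i (j - i)

variable (F G : ℕ → (M →ₗ[A] M))

@[simp] theorem push_self (j : ℕ) (x : M) : push F G j j x = x := by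
  simp [push, fw]

theorem F_push {j i : ℕ} (h : j ≤ i) (x : M) : F i (push F G j i x) = push F G j (i + 1) x := by
  rw [push, push, if_pos h, if_pos (by omega), show i + 1 - j = (i - j) + 1 by omega, fw,
    LinearMap.comp_apply, show j + (i - j) = i by omega]

theorem G_push {j i : ℕ} (h : i < j) (x : M) : G i (push F G j (i + 1) x) = push F G j i x := by
  rw [push, push, if_neg (by omega : ¬ j ≤ i)]
  obtain ⟨l, rfl⟩ : ∃ l, j = i + 1 + l := ⟨j - (i + 1), by omega⟩
  rw [show i + 1 + l - i = l + 1 by omega, bw_succ']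
  by_cases hl : l = 0
  · subst hl
    simp [fw, bw]
  · rw [if_neg (by omega), show i + 1 + l - (i + 1) = l by omega]
    rfl

variable {F G} {s : A} {n : ℕ}

theorem F_push' (hFG : ∀ i < n, ∀ x, F i (G i x) = s • x) {j i : ℕ} (hi : i < n) (h : i < j) (x : M) :
    F i (push F G j i x) = s • push F G j (i + 1) x := by
  rw [← G_push F G h, hFG i hi]

theorem G_push' (hGF : ∀ i < n, ∀ x, G i (F i x) = s • x) {j i : ℕ} (hi : i < n) (h : j ≤ i) (x : M) :
    G i (push F G j (i + 1) x) = s • push F G j i x := by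
  rw [← F_push F G h, hGF i hi]

variable {ι : Type*} (F G) (τ : ι → ℕ) (c : ι → M)

/-- the span at the vertex `i` of the family `c` of vectors `c a` born at the vertex `τ a` -/
def spanT (i : ℕ) : Submodule A M := Submodule.span A (Set.range fun a => push F G (τ a) i (c a))

variable {F G τ c}

theorem push_mem_spanT (i : ℕ) (a : ι) : push F G (τ a) i (c a) ∈ spanT F G τ c i :=
  Submodule.subset_span ⟨a, rfl⟩

theorem map_F_spanT (hFG : ∀ i < n, ∀ x, F i (G i x) = s • x) {i : ℕ} (hi : i < n) :
    Submodule.map (F i) (spanT F G τ c i) ≤ spanT F G τ c (i + 1) := by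
  rw [spanT, Submodule.map_span_le]
  rintro _ ⟨a, rfl⟩
  change F i (push F G (τ a) i (c a)) ∈ _
  by_cases h : τ a ≤ i
  · rw [F_push F G h]
    exact push_mem_spanT _ _
  · rw [F_push' hFG hi (by omega)]
    exact Submodule.smul_mem _ _ (push_mem_spanT _ _)

theorem map_G_spanT (hGF : ∀ i < n, ∀ x, G i (F i x) = s • x) {i : ℕ} (hi : i < n) :
    Submodule.map (G i) (spanT F G τ c (i + 1)) ≤ spanT F G τ c i := by
  rw [spanT, Submodule.map_span_le]
  rintro _ ⟨a, rfl⟩
  change G i (push F G (τ a) (i + 1) (c a)) ∈ _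
  by_cases h : τ a ≤ i
  · rw [G_push' hGF hi h]
    exact Submodule.smul_mem _ _ (push_mem_spanT _ _)
  · rw [G_push F G (by omega)]
    exact push_mem_spanT _ _

/-- vectors pushed from a linked tuple stay in the linked tuple -/
theorem push_mem {V : ℕ → Submodule A M}
    (hF : ∀ i < n, Submodule.map (F i) (V i) ≤ V (i + 1))
    (hG : ∀ i < n, Submodule.map (G i) (V (i + 1)) ≤ V i) {j i : ℕ} (hj : j ≤ n) (hi : i ≤ n) {x : M}
    (hx : x ∈ V j) : push F G j i x ∈ V i := by
  by_cases h : j ≤ i
  · obtain ⟨l, rfl⟩ := Nat.exists_eq_add_of_le h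
    induction l with
    | zero => simpa using hx
    | succ l ih =>
      have h1 := ih (by omega) (by omega)
      rw [← add_assoc, ← F_push F G (by omega)]
      exact hF _ (by omega) ⟨_, h1, rfl⟩
  · obtain ⟨l, rfl⟩ : ∃ l, j = i + l := ⟨j - i, by omega⟩
    clear h
    induction l generalizing i with
    | zero => simpa using hx
    | succ l ih =>
      rw [← G_push F G (by omega)]
      have h1 := ih (i := i + 1) (by omega) (by omega) (by rwa [show i + 1 + l = i + (l + 1) by omega])
      rw [show i + 1 + l = i + (l + 1) by omega] at h1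
      exact hG _ (by omega) ⟨_, h1, rfl⟩

/-- compatibility with a semilinear map -/
theorem map_push {B : Type*} [CommRing B] {N : Type*} [AddCommGroup N] [Module B N]
    {F' G' : ℕ → (N →ₗ[B] N)} (θ : M →+ N) (hF : ∀ i < n, ∀ x, θ (F i x) = F' i (θ x))
    (hG : ∀ i < n, ∀ x, θ (G i x) = G' i (θ x)) {j i : ℕ} (hj : j ≤ n) (hi : i ≤ n) (x : M) :
    θ (push F G j i x) = push F' G' j i (θ x) := by
  by_cases h : j ≤ i
  · obtain ⟨l, rfl⟩ := Nat.exists_eq_add_of_le h
    induction l with
    | zero => simp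
    | succ l ih =>
      rw [← add_assoc, ← F_push F G (by omega), ← F_push F' G' (by omega), hF _ (by omega), ih]
      · omega
      · omega
  · obtain ⟨l, rfl⟩ : ∃ l, j = i + l := ⟨j - i, by omega⟩
    clear h
    induction l generalizing i with
    | zero => simp
    | succ l ih =>
      rw [← G_push F G (by omega), ← G_push F' G' (by omega), hG _ (by omega)]
      have h1 := ih (i := i + 1) (by omega) (by omega)
      rw [show i + 1 + l = i + (l + 1) by omega] at h1
      rw [h1]

end K189.Chain
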