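import Groth.Agent.W4c1limliniiii.K678.LocSpan

/-!
Echelon bases of subspaces of `K^d`.
-/

set_option autoImplicit false

open Module

namespace K189.Ech

open K678.LocSpan Groth.Agent.Fga.GrassBasic

variable {K : Type*} [Field K] {d r : ℕ}

theorem exists_ech (W : Submodule K (Fin d → K)) (hW : finrank K W = r) :
    ∃ (ρ : Fin r → Fin d) (v : Fin r → Fin d → K), (∀ b, v b ∈ W) ∧
      (∀ b b', v b (ρ b') = if b = b' then 1 else 0) ∧ Submodule.span K (Set.range v) = W := by
  let u : Basis (Fin r) K W := (finBasis K W).reindex (finCongr hW)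
  let u' : Fin r → Fin d → K := fun a => (u a : Fin d → K)
  have hu : LinearIndependent K u' := u.linearIndependent.map' W.subtype W.ker_subtype
  obtain ⟨ρ, hρ⟩ := exists_minor u' hu
  let N : Matrix (Fin r) (Fin r) K := Matrix.of fun a b => u' a (ρ b)
  have hN : IsUnit N.det := isUnit_iff_ne_zero.2 hρ
  let v : Fin r → Fin d → K := fun b => ∑ a, N⁻¹ b a • u' a
  have hv : ∀ b, v b ∈ W := fun b => Submodule.sum_mem _ fun a _ => Submodule.smul_mem _ _ (u a).2
  have hδ : ∀ b b', v b (ρ b') = if b = b' then 1 else 0 := by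
    intro b b'
    have h1 : (N⁻¹ * N) b b' = (1 : Matrix (Fin r) (Fin r) K) b b' := by
      rw [Matrix.nonsing_inv_mul _ hN]
    rw [Matrix.one_apply, Matrix.mul_apply] at h1
    rw [← h1]
    simp only [v, Finset.sum_apply, Pi.smul_apply, smul_eq_mul]
    rfl
  have hli : LinearIndependent K v := by
    apply li_of_minor v ρ
    have h1 : (Matrix.of fun a b => v a (ρ b)) = (1 : Matrix (Fin r) (Fin r) K) := by
      ext a b
      rw [Matrix.of_apply, hδ, Matrix.one_apply]
    rw [h1, Matrix.det_one]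
    exact one_ne_zero
  refine ⟨ρ, v, hv, hδ, ?_⟩
  apply Submodule.eq_of_le_of_finrank_eq
  · rw [Submodule.span_le]
    rintro _ ⟨b, rfl⟩
    exact hv b
  · rw [finrank_span_eq_card hli, Fintype.card_fin, hW]

theorem eq_sum {K' : Type*} [Field K'] (φ : K →+* K') {W : Submodule K (Fin d → K)}
    {ρ : Fin r → Fin d} {v : Fin r → Fin d → K}
    (hδ : ∀ b b', v b (ρ b') = if b = b' then 1 else 0) (hspan : Submodule.span K (Set.range v) = W)
    {w : Fin d → K'} (hw : w ∈ bc φ W) : w = ∑ b, w (ρ b) • mapV φ (v b) := by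
  rw [← hspan, bc_span', Submodule.mem_span_range_iff_exists_fun] at hw
  obtain ⟨μ, rfl⟩ := hw
  refine Finset.sum_congr rfl fun b _ => ?_
  congr 1
  rw [Finset.sum_apply, Finset.sum_eq_single b]
  · simp [hδ]
  · intro b' _ hb
    simp [hδ, hb]
  · intro h
    exact absurd (Finset.mem_univ _) h

end K189.Ech
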