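import Groth.Agent.W4c1limliniiii.K189.Smooth
import Groth.Agent.W4c1limliniiii.K678.ExactField

/-!
Exact tuples over a field are generated by vectors; the factorisation of a point with values in a
local ring through the local ring.
-/

set_option autoImplicit false
universe u v w
open TensorProduct Module AlgebraicGeometry CategoryTheory

namespace K189.Exact

open K189.Lift K189.LocLift W4c1limliniiii K678.Exact

theorem exists_stalkHom {R : Type u} [CommRing R] {X : Over (Spec (CommRingCat.of R))} {A : Type u}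
    [CommRing A] [Algebra R A] [IsLocalRing A]
    (y : Over.mk (Spec.map (CommRingCat.ofHom (algebraMap R A))) ⟶ X) (pt : X.left)
    (hpt : y.left (IsLocalRing.closedPoint A) = pt) :
    ∃ ψ : stalkAlg X pt →ₐ[R] A,
      y.left = Spec.map (CommRingCat.ofHom ψ.toRingHom) ≫ X.left.fromSpecStalk pt := by
  haveI : IsLocalRing (CommRingCat.of A) := ‹IsLocalRing A›
  have key : ∀ (q : X.left) (_ : y.left (IsLocalRing.closedPoint (CommRingCat.of A)) = q),
      ∃ γ : X.left.presheaf.stalk q ⟶ CommRingCat.of A,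
        Spec.map γ ≫ X.left.fromSpecStalk q = y.left := by
    rintro _ rfl
    exact ⟨_, Scheme.Spec_stalkClosedPointTo_fromSpecStalk _⟩
  obtain ⟨γ, hγ⟩ := key pt hpt
  have halg : structMap X pt ≫ γ = CommRingCat.ofHom (algebraMap R A) := by
    apply Spec.map_injective
    rw [Spec.map_comp, map_structMap, reassoc_of% hγ]
    exact Over.w y
  exact ⟨{ γ.hom with commutes' := fun a => congrArg (fun F => F.hom a) halg }, hγ.symm⟩

theorem inf_ker_baseChange {k : Type u} [Field k] {M : Type v} [AddCommGroup M] [Module k M]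
    (φ ψ : M →ₗ[k] M) (h : LinearMap.range φ ⊓ LinearMap.ker ψ = ⊥) (K : Type w) [CommRing K]
    [Algebra k K] : LinearMap.range (φ.baseChange K) ⊓ LinearMap.ker (ψ.baseChange K) = ⊥ := by
  have hinj : LinearMap.ker (ψ.domRestrict (LinearMap.range φ)) = ⊥ := by
    rw [eq_bot_iff]
    rintro ⟨x, hx⟩ hx'
    have : x ∈ LinearMap.range φ ⊓ LinearMap.ker ψ := ⟨hx, hx'⟩
    rw [h, Submodule.mem_bot] at this
    exact Subtype.ext this
  obtain ⟨ρ, hρ⟩ := LinearMap.exists_leftInverse_of_injective _ hinj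
  have h1 : ((LinearMap.range φ).subtype ∘ₗ ρ) ∘ₗ ψ ∘ₗ φ = φ := by
    ext x
    have := LinearMap.congr_fun hρ ⟨φ x, ⟨x, rfl⟩⟩
    exact congrArg Subtype.val this
  rw [eq_bot_iff]
  rintro _ ⟨⟨x, rfl⟩, hx⟩
  rw [SetLike.mem_coe, LinearMap.mem_ker] at hx
  rw [Submodule.mem_bot]
  have h2 := congrArg (fun F => LinearMap.baseChange K F x) h1
  simp only [LinearMap.baseChange_comp, LinearMap.comp_apply] at h2
  rw [hx, map_zero, map_zero] at h2
  exact h2.symm

variable {k : Type u} [Field k] {d r n : ℕ} {f g : Fin n → ((Fin d → k) →ₗ[k] (Fin d → k))}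

/-- the generation of an exact tuple over a field -/
theorem hasGen_of_isExact {s : k} (hr : r ≤ d)
    (hI : ∀ i, (f i).comp (g i) = s • LinearMap.id ∧ (g i).comp (f i) = s • LinearMap.id)
    (hIII : ∀ i j : Fin n, i.val + 1 = j.val →
      LinearMap.range (f i) ⊓ LinearMap.ker (f j) = ⊥ ∧
        LinearMap.range (g j) ⊓ LinearMap.ker (g i) = ⊥)
    {K : Type u} [Field K] [Algebra k K]
    {V : Fin (n + 1) → Grassmannian K (K ⊗[k] (Fin d → k)) (d - r)} (hV : V ∈ LGPoints k d r n f g K)
    (hx : IsExact k d r n f g K V) : HasGen f g V := by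
  apply exists_span (s := algebraMap k K s) (ex_comp (fun i => (hI i).1) K)
    (ex_comp (fun i => (hI i).2) K)
  · intro i hi
    rw [ex_of_lt f K (by omega), ex_of_lt f K hi]
    exact inf_ker_baseChange _ _ (hIII ⟨i, by omega⟩ ⟨i + 1, hi⟩ rfl).1 K
  · exact ⟨fun i hi => map_F_exV hV hi, fun i hi => map_G_exV hV hi⟩
  · intro i hi
    have := hx ⟨i, hi⟩
    rw [ex_of_lt f K hi, ex_of_lt g K hi, exV_of_le V hi.le, exV_of_le V hi]
    exact this
  · intro i hi
    rw [exV_of_le V hi]
    exact finrank_point hr _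

end K189.Exact
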