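import Groth.Agent.Fga.GrassBasic
import Groth.Agent.Grass.K652.MapSpan
import Mathlib.LinearAlgebra.Determinant
import Mathlib.LinearAlgebra.Basis.VectorSpace

/-!
Spans of families of vectors in `A ⊗ R^d` for `A` local, independent over the residue field, are
points of the Grassmannian.
-/

set_option autoImplicit false
universe u v w
open TensorProduct Module

namespace K189.LocalSpan

open Groth.Agent.Fga.GrassBasic K652.MapSpan

section Basis

variable {A : Type*} [CommRing A] {N : Type*} [AddCommGroup N] [Module A N]
variable {ι κ : Type*} [Finite ι] [Fintype κ]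

/-- the quotient by the span of the first part of a basis -/
noncomputable def quotEquiv (b : Basis (ι ⊕ κ) A N) :
    (N ⧸ Submodule.span A (Set.range (b ∘ Sum.inl))) ≃ₗ[A] (κ → A) := by
  classical
  let π : N →ₗ[A] (κ → A) := LinearMap.pi fun j => b.coord (Sum.inr j)
  have hπ : Function.Surjective π := by
    intro f
    refine ⟨∑ j, f j • b (Sum.inr j), ?_⟩
    ext j
    simp [π, Finsupp.single_apply]
  have hker : LinearMap.ker π = Submodule.span A (Set.range (b ∘ Sum.inl)) := by
    apply le_antisymm
    · intro x hx
      have hx' : ∀ j, b.repr x (Sum.inr j) = 0 := fun j => congrFun (LinearMap.mem_ker.1 hx) j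
      have := Fintype.ofFinite ι
      rw [← b.sum_repr x, Fintype.sum_sum_type]
      simp only [hx', zero_smul, Finset.sum_const_zero, add_zero]
      exact Submodule.sum_mem _ fun i _ => Submodule.smul_mem _ _ (Submodule.subset_span ⟨i, rfl⟩)
    · rw [Submodule.span_le]
      rintro _ ⟨i, rfl⟩
      rw [SetLike.mem_coe, LinearMap.mem_ker]
      ext j
      simp [π]
  exact (Submodule.quotEquivOfEq _ _ hker.symm).trans (π.quotKerEquivOfSurjective hπ)

theorem isQuotRank_of_basis (b : Basis (ι ⊕ κ) A N) :
    IsQuotRank (Fintype.card κ) (Submodule.span A (Set.range (b ∘ Sum.inl))) := by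
  have e := quotEquiv b
  refine ⟨Module.Projective.of_equiv e.symm, fun p => ?_⟩
  rw [Module.rankAtStalk_eq_of_equiv e]
  have : Nontrivial A := p.nontrivial
  rw [Module.rankAtStalk_eq_finrank_of_free]
  simp

end Basis

section Rank

/-- A surjection between finite projective modules with the same ranks is injective. -/
theorem injective_of_surjective_of_rank {B : Type*} [CommRing B] {M N : Type*} [AddCommGroup M] [Module B M] [Module.Finite B M]
    [Module.Projective B M] [AddCommGroup N] [Module B N] [Module.Projective B N]
    (hMN : ∀ p : PrimeSpectrum B, Module.rankAtStalk (R := B) M p = Module.rankAtStalk (R := B) N p)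
    (f : M →ₗ[B] N) (hf : Function.Surjective f) : Function.Injective f := by
  obtain ⟨s, hs⟩ := Module.projective_lifting_property f LinearMap.id hf
  have : Module.Finite B N := Module.Finite.of_surjective f hf
  let K := LinearMap.ker f
  have hcompl : IsCompl K (LinearMap.range s) := by
    constructor
    · rw [Submodule.disjoint_def]
      rintro _ hx ⟨y, rfl⟩
      have h1 : f (s y) = y := congrArg (fun g => g y) hs
      have h2 : f (s y) = 0 := hx
      rw [← h1, h2, map_zero]
    · rw [codisjoint_iff, eq_top_iff]
      intro x _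
      rw [← sub_add_cancel x (s (f x))]
      refine Submodule.add_mem_sup ?_ ⟨_, rfl⟩
      change f (x - s (f x)) = 0
      have h1 : f (s (f x)) = f x := congrArg (fun g => g (f x)) hs
      rw [map_sub, h1, sub_self]
  let eq : (K × LinearMap.range s) ≃ₗ[B] M := Submodule.prodEquivOfIsCompl _ _ hcompl
  have hsinj : Function.Injective s := by
    intro x y hxy
    have h1 : f (s x) = x := congrArg (fun g => g x) hs
    have h2 : f (s y) = y := congrArg (fun g => g y) hs
    rw [← h1, ← h2, hxy]
  let eN : N ≃ₗ[B] LinearMap.range s := LinearEquiv.ofInjective s hsinj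
  have hKproj : Module.Projective B K := by
    have : Module.Projective B (K × LinearMap.range s) := Module.Projective.of_equiv eq.symm
    exact Module.Projective.of_split (LinearMap.inl B K (LinearMap.range s)) (LinearMap.fst B K (LinearMap.range s))
      (by ext; simp)
  have hRproj : Module.Projective B (LinearMap.range s) := Module.Projective.of_equiv eN
  have hKfin : Module.Finite B K :=
    Module.Finite.of_surjective ((LinearMap.fst B K (LinearMap.range s)).comp eq.symm.toLinearMap)
      (by
        intro x
        exact ⟨eq (x, 0), by simp⟩)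
  have hrank : Module.rankAtStalk (R := B) K = 0 := by
    ext p
    have h1 := congrFun (Module.rankAtStalk_prod (R := B) K (LinearMap.range s)) p
    rw [Module.rankAtStalk_eq_of_equiv eq] at h1
    simp only [Pi.add_apply] at h1
    rw [← Module.rankAtStalk_eq_of_equiv eN, hMN p] at h1
    simp only [Pi.zero_apply]
    omega
  have hsub : Subsingleton K := Module.rankAtStalk_eq_zero_iff_subsingleton.1 hrank
  rw [← LinearMap.ker_eq_bot]
  exact (Submodule.subsingleton_iff_eq_bot).1 hsub

/-- Nested submodules with quotients of the same rank are equal. -/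
theorem eq_of_le_of_isQuotRank {B : Type*} [CommRing B] {V : Type*} [AddCommGroup V] [Module B V] [Module.Finite B V] {d : ℕ}
    {L L' : Submodule B V} (h : L ≤ L') (hL : IsQuotRank d L) (hL' : IsQuotRank d L') : L = L' := by
  apply le_antisymm h
  have := hL.proj
  have := hL'.proj
  have hinj := injective_of_surjective_of_rank (M := V ⧸ L) (N := V ⧸ L')
    (fun p => by rw [hL.rank, hL'.rank]) (Submodule.factor h) (Submodule.factor_surjective h)
  intro x hx
  have h1 : Submodule.factor h (Submodule.Quotient.mk x) = 0 :=
    (Submodule.Quotient.mk_eq_zero L').2 hx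
  have h2 := hinj (h1.trans (map_zero _).symm)
  rwa [Submodule.Quotient.mk_eq_zero] at h2

end Rank

variable {R : Type u} [CommRing R] {d : ℕ} {A B : Type w} [CommRing A] [Algebra R A]
  [CommRing B] [Algebra R B]

/-- the standard basis of `A ⊗ R^d` -/
noncomputable def stdBasis (R : Type u) [CommRing R] (d : ℕ) (A : Type w) [CommRing A] [Algebra R A] :
    Basis (Fin d) A (A ⊗[R] (Fin d → R)) := (Pi.basisFun R (Fin d)).baseChange A

theorem stdBasis_bcM (θ : A →ₐ[R] B) (x : A ⊗[R] (Fin d → R)) (i : Fin d) :
    (stdBasis R d B).repr (bcM (Fin d → R) θ x) i = θ ((stdBasis R d A).repr x i) := by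
  induction x using TensorProduct.induction_on with
  | zero => simp
  | tmul a m => simp [stdBasis, Basis.baseChange_repr_tmul]
  | add x y hx hy => simp only [map_add, Finsupp.add_apply, hx, hy]

theorem det_bcM (θ : A →ₐ[R] B) {ι : Type*} [Fintype ι] [DecidableEq ι] (e : Fin d ≃ ι)
    (u : ι → A ⊗[R] (Fin d → R)) :
    ((stdBasis R d B).reindex e).det (fun i => bcM (Fin d → R) θ (u i)) =
      θ (((stdBasis R d A).reindex e).det u) := by
  rw [Basis.det_apply, Basis.det_apply, ← AlgHom.coe_toRingHom, RingHom.map_det]
  congr 1
  ext i j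
  simp only [Basis.toMatrix_apply, Basis.repr_reindex, Finsupp.mapDomain_equiv_apply,
    RingHom.mapMatrix_apply, Matrix.map_apply]
  exact stdBasis_bcM θ _ _

/-- A family which becomes a basis after a surjective map to a field is a basis (local ring). -/
theorem isBasis_of_field [IsLocalRing A] {K : Type w} [Field K] [Algebra R K] (θ : A →ₐ[R] K)
    (hθ : Function.Surjective θ) {ι : Type*} [Fintype ι] [DecidableEq ι] (e : Fin d ≃ ι)
    (u : ι → A ⊗[R] (Fin d → R))
    (hu : LinearIndependent K (fun i => bcM (Fin d → R) θ (u i)) ∧
      Submodule.span K (Set.range (fun i => bcM (Fin d → R) θ (u i))) = ⊤) :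
    LinearIndependent A u ∧ Submodule.span A (Set.range u) = ⊤ := by
  rw [Basis.is_basis_iff_det ((stdBasis R d K).reindex e), det_bcM] at hu
  rw [Basis.is_basis_iff_det ((stdBasis R d A).reindex e)]
  by_contra h
  have h1 : ((stdBasis R d A).reindex e).det u ∈ IsLocalRing.maximalIdeal A := h
  have h2 : RingHom.ker θ.toRingHom = IsLocalRing.maximalIdeal A :=
    IsLocalRing.eq_maximalIdeal (RingHom.ker_isMaximal_of_surjective _ hθ)
  rw [← h2] at h1
  have h3 : θ (((stdBasis R d A).reindex e).det u) = 0 := h1
  rw [h3] at hu
  exact not_isUnit_zero hu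

theorem finrank_tensor (K : Type w) [Field K] [Algebra R K] :
    Module.finrank K (K ⊗[R] (Fin d → R)) = d := by
  rw [Module.finrank_eq_card_basis (stdBasis R d K), Fintype.card_fin]

theorem bcM_surjective (M : Type v) [AddCommGroup M] [Module R M] (θ : A →ₐ[R] B)
    (hθ : Function.Surjective θ) : Function.Surjective (bcM M θ) :=
  TensorProduct.map_surjective hθ Function.surjective_id

/-- The span of vectors independent at the residue field is a Grassmannian point. -/
theorem isQuotRank_span [IsLocalRing A] {K : Type w} [Field K] [Algebra R K] (θ : A →ₐ[R] K)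
    (hθ : Function.Surjective θ) {r : ℕ} (v : Fin r → A ⊗[R] (Fin d → R))
    (hv : LinearIndependent K (fun i => bcM (Fin d → R) θ (v i))) :
    IsQuotRank (d - r) (Submodule.span A (Set.range v)) := by
  classical
  have hr : r ≤ d := by
    have := hv.fintype_card_le_finrank
    rwa [Fintype.card_fin, finrank_tensor] at this
  let S := Submodule.span K (Set.range (fun i => bcM (Fin d → R) θ (v i)))
  obtain ⟨W, hW⟩ := Submodule.exists_isCompl S
  have hSr : Module.finrank K S = r := by
    rw [finrank_span_eq_card hv, Fintype.card_fin]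
  have hWr : Module.finrank K W = d - r := by
    have := Submodule.finrank_add_eq_of_isCompl hW
    rw [finrank_tensor] at this
    omega
  let bS : Basis (Fin r) K S := Basis.span hv
  have hWfree : Module.Free K W := Module.Free.of_divisionRing K W
  let bW : Basis (Fin (d - r)) K W := Module.finBasisOfFinrankEq K W hWr
  let b : Basis (Fin r ⊕ Fin (d - r)) K (K ⊗[R] (Fin d → R)) :=
    (bS.prod bW).map (Submodule.prodEquivOfIsCompl S W hW)
  have hbl : ∀ a, b (Sum.inl a) = bcM (Fin d → R) θ (v a) := by
    intro a
    simp only [b, Basis.map_apply, Basis.prod_apply, Sum.elim_inl, Function.comp_apply,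
      Submodule.coe_prodEquivOfIsCompl', LinearMap.coe_inl, ZeroMemClass.coe_zero, add_zero]
    exact congrArg Subtype.val (Basis.span_apply hv a)
  choose w hw using fun j => bcM_surjective (Fin d → R) θ hθ (b (Sum.inr j))
  let u : Fin r ⊕ Fin (d - r) → A ⊗[R] (Fin d → R) := Sum.elim v w
  have hub : (fun i => bcM (Fin d → R) θ (u i)) = b := by
    ext i
    rcases i with a | j
    · exact (hbl a).symm
    · exact hw j
  have e : Fin d ≃ Fin r ⊕ Fin (d - r) := (finCongr (by omega)).trans finSumFinEquiv.symm
  obtain ⟨h1, h2⟩ := isBasis_of_field θ hθ e u (by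
    rw [hub]
    exact ⟨b.linearIndependent, b.span_eq⟩)
  let bA : Basis (Fin r ⊕ Fin (d - r)) A (A ⊗[R] (Fin d → R)) := Basis.mk h1 h2.ge
  have h3 := isQuotRank_of_basis bA
  have h4 : (bA ∘ Sum.inl : Fin r → A ⊗[R] (Fin d → R)) = v := by
    ext1 a
    simp [bA, u]
  rw [h4, Fintype.card_fin] at h3
  exact h3

end K189.LocalSpan
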