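import Groth.Agent.W4c1limliniiii.K189.Chain
import Groth.Agent.W4c1limliniiii.K189.LocalSpan
import Mathlib.LinearAlgebra.Dimension.OrzechProperty
import Groth.Prelude.Def_W4c1limliniiiiLG

/-!
Lifting of points of the linked Grassmannian with exact special fibre along surjections of local
rings.
-/

set_option autoImplicit false
universe u v w
open TensorProduct Module

namespace K189.Lift

open Groth.Agent.Fga.GrassBasic K652.MapSpan K189.Chain K189.LocalSpan W4c1limliniiii

variable {R : Type u} [CommRing R] {d r n : ℕ}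

/-- the maps of the chain over `A`, indexed by `ℕ` -/
noncomputable def ex (f : Fin n → ((Fin d → R) →ₗ[R] (Fin d → R))) (A : Type w) [CommRing A] [Algebra R A] :
    ℕ → (A ⊗[R] (Fin d → R) →ₗ[A] A ⊗[R] (Fin d → R)) :=
  fun i => if h : i < n then (f ⟨i, h⟩).baseChange A else 0

theorem ex_of_lt (f : Fin n → ((Fin d → R) →ₗ[R] (Fin d → R))) (A : Type w) [CommRing A] [Algebra R A]
    {i : ℕ} (h : i < n) : ex f A i = (f ⟨i, h⟩).baseChange A := dif_pos h

/-- a tuple of points of the Grassmannian, indexed by `ℕ` -/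
def exV {A : Type w} [CommRing A] [Algebra R A]
    (V : Fin (n + 1) → Grassmannian A (A ⊗[R] (Fin d → R)) (d - r)) : ℕ → Submodule A (A ⊗[R] (Fin d → R)) :=
  fun i => if h : i < n + 1 then (V ⟨i, h⟩).toSubmodule else ⊥

theorem exV_of_le {A : Type w} [CommRing A] [Algebra R A]
    (V : Fin (n + 1) → Grassmannian A (A ⊗[R] (Fin d → R)) (d - r)) {i : ℕ} (h : i ≤ n) :
    exV V i = (V ⟨i, by omega⟩).toSubmodule := dif_pos (by omega)

variable {f g : Fin n → ((Fin d → R) →ₗ[R] (Fin d → R))}

theorem map_F_exV {A : Type w} [CommRing A] [Algebra R A]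
    {V : Fin (n + 1) → Grassmannian A (A ⊗[R] (Fin d → R)) (d - r)} (hV : V ∈ LGPoints R d r n f g A)
    {i : ℕ} (h : i < n) : Submodule.map (ex f A i) (exV V i) ≤ exV V (i + 1) := by
  rw [ex_of_lt f A h, exV_of_le V h.le, exV_of_le V h]
  exact (hV ⟨i, h⟩).1

theorem map_G_exV {A : Type w} [CommRing A] [Algebra R A]
    {V : Fin (n + 1) → Grassmannian A (A ⊗[R] (Fin d → R)) (d - r)} (hV : V ∈ LGPoints R d r n f g A)
    {i : ℕ} (h : i < n) : Submodule.map (ex g A i) (exV V (i + 1)) ≤ exV V i := by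
  rw [ex_of_lt g A h, exV_of_le V h.le, exV_of_le V h]
  exact (hV ⟨i, h⟩).2

theorem mem_LGPoints_iff {A : Type w} [CommRing A] [Algebra R A]
    {V : Fin (n + 1) → Grassmannian A (A ⊗[R] (Fin d → R)) (d - r)} :
    V ∈ LGPoints R d r n f g A ↔ ∀ i < n, Submodule.map (ex f A i) (exV V i) ≤ exV V (i + 1) ∧
      Submodule.map (ex g A i) (exV V (i + 1)) ≤ exV V i := by
  constructor
  · intro hV i hi
    exact ⟨map_F_exV hV hi, map_G_exV hV hi⟩
  · intro hV i
    have h := hV i i.2
    rw [ex_of_lt f A i.2, ex_of_lt g A i.2, exV_of_le V i.2.le, exV_of_le V i.2] at h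
    exact h

/-- the tuple is generated by `r` vectors at some vertices -/
def HasGen (f g : Fin n → ((Fin d → R) →ₗ[R] (Fin d → R))) {A : Type w} [CommRing A] [Algebra R A]
    (V : Fin (n + 1) → Grassmannian A (A ⊗[R] (Fin d → R)) (d - r)) : Prop :=
  ∃ (τ : Fin r → ℕ) (c : Fin r → A ⊗[R] (Fin d → R)), (∀ a, τ a ≤ n) ∧ (∀ a, c a ∈ exV V (τ a)) ∧
    ∀ i ≤ n, spanT (ex f A) (ex g A) τ c i = exV V i

theorem baseChange_bcM {A B : Type w} [CommRing A] [Algebra R A] [CommRing B] [Algebra R B]
    (θ : A →ₐ[R] B) (h : (Fin d → R) →ₗ[R] (Fin d → R)) (x : A ⊗[R] (Fin d → R)) :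
    bcM (Fin d → R) θ (h.baseChange A x) = h.baseChange B (bcM (Fin d → R) θ x) := by
  induction x using TensorProduct.induction_on with
  | zero => simp
  | tmul a m => simp
  | add x y hx hy => simp only [map_add, hx, hy]

theorem ex_bcM {A B : Type w} [CommRing A] [Algebra R A] [CommRing B] [Algebra R B]
    (θ : A →ₐ[R] B) (f : Fin n → ((Fin d → R) →ₗ[R] (Fin d → R))) (i : ℕ) (hi : i < n)
    (x : A ⊗[R] (Fin d → R)) :
    bcM (Fin d → R) θ (ex f A i x) = ex f B i (bcM (Fin d → R) θ x) := by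
  rw [ex_of_lt f A hi, ex_of_lt f B hi, baseChange_bcM]

theorem push_bcM {A B : Type w} [CommRing A] [Algebra R A] [CommRing B] [Algebra R B]
    (θ : A →ₐ[R] B) {j i : ℕ} (hj : j ≤ n) (hi : i ≤ n) (x : A ⊗[R] (Fin d → R)) :
    bcM (Fin d → R) θ (push (ex f A) (ex g A) j i x) =
      push (ex f B) (ex g B) j i (bcM (Fin d → R) θ x) :=
  map_push (n := n) (bcM (Fin d → R) θ).toAddMonoidHom (fun i hi x => ex_bcM θ f i hi x)
    (fun i hi x => ex_bcM θ g i hi x) hj hi x

theorem ex_comp {s : R} (hI : ∀ i, (f i).comp (g i) = s • LinearMap.id) (A : Type w) [CommRing A]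
    [Algebra R A] : ∀ i < n, ∀ x, ex f A i (ex g A i x) = algebraMap R A s • x := by
  intro i hi x
  rw [ex_of_lt f A hi, ex_of_lt g A hi]
  induction x using TensorProduct.induction_on with
  | zero => simp
  | tmul a m =>
    have h := LinearMap.congr_fun (hI ⟨i, hi⟩) m
    simp only [LinearMap.comp_apply, LinearMap.smul_apply, LinearMap.id_apply] at h
    rw [LinearMap.baseChange_tmul, LinearMap.baseChange_tmul, h, algebraMap_smul,
      TensorProduct.tmul_smul]
  | add x y hx hy => simp only [map_add, hx, hy, smul_add]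

/-- points of the Grassmannian over a field -/
theorem finrank_point {K : Type w} [Field K] [Algebra R K] (hr : r ≤ d)
    (V : Grassmannian K (K ⊗[R] (Fin d → R)) (d - r)) : Module.finrank K V.toSubmodule = r := by
  have h1 := Submodule.finrank_quotient_add_finrank V.toSubmodule
  rw [finrank_tensor] at h1
  have h2 : Module.finrank K ((K ⊗[R] (Fin d → R)) ⧸ V.toSubmodule) = d - r := by
    have := V.rankAtStalk_eq ⊥
    rwa [Module.rankAtStalk_eq_finrank_of_free] at this
  omega

theorem linearIndependent_push {K : Type w} [Field K] [Algebra R K] (hr : r ≤ d)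
    {V : Fin (n + 1) → Grassmannian K (K ⊗[R] (Fin d → R)) (d - r)}
    {τ : Fin r → ℕ} {c : Fin r → K ⊗[R] (Fin d → R)}
    (h : ∀ i ≤ n, spanT (ex f K) (ex g K) τ c i = exV V i) {i : ℕ} (hi : i ≤ n) :
    LinearIndependent K (fun a => push (ex f K) (ex g K) (τ a) i (c a)) := by
  rw [linearIndependent_iff_card_eq_finrank_span, Fintype.card_fin]
  have h1 : (Set.range fun a => push (ex f K) (ex g K) (τ a) i (c a)).finrank K =
      Module.finrank K (spanT (ex f K) (ex g K) τ c i) := rfl
  rw [h1, h i hi, exV_of_le V hi, finrank_point hr]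

/-- the image of a point under a surjective map -/
theorem exists_mem_bcM {B K : Type w} [CommRing B] [Algebra R B] [CommRing K] [Algebra R K]
    (ψ : B →ₐ[R] K) (hψ : Function.Surjective ψ)
    (V : Grassmannian B (B ⊗[R] (Fin d → R)) (d - r)) {y : K ⊗[R] (Fin d → R)}
    (hy : y ∈ (Grassmannian.map ψ V).toSubmodule) : ∃ x ∈ V.toSubmodule, bcM (Fin d → R) ψ x = y := by
  rw [map_toSubmodule_eq_span] at hy
  induction hy using Submodule.span_induction with
  | mem y h => exact h
  | zero => exact ⟨0, zero_mem _, map_zero _⟩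
  | add x y _ _ hx hy =>
    obtain ⟨x, hx, rfl⟩ := hx
    obtain ⟨y, hy, rfl⟩ := hy
    exact ⟨x + y, add_mem hx hy, map_add _ _ _⟩
  | smul c y _ hy =>
    obtain ⟨y, hy, rfl⟩ := hy
    obtain ⟨b, rfl⟩ := hψ c
    exact ⟨b • y, Submodule.smul_mem _ _ hy, bcM_smul _ _ _⟩

/-- the point attached to a submodule -/
noncomputable def mkPoint {A : Type w} [CommRing A] [Algebra R A] {L : Submodule A (A ⊗[R] (Fin d → R))}
    (hL : IsQuotRank (d - r) L) : Grassmannian A (A ⊗[R] (Fin d → R)) (d - r) where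
  toSubmodule := L
  finite_quotient := inferInstance
  projective_quotient := hL.proj
  rankAtStalk_eq := hL.rank

theorem isQuotRank_point {A : Type w} [CommRing A] [Algebra R A]
    (V : Grassmannian A (A ⊗[R] (Fin d → R)) (d - r)) : IsQuotRank (d - r) V.toSubmodule :=
  ⟨V.projective_quotient, V.rankAtStalk_eq⟩

/-- **Lifting lemma.** -/
theorem exists_lift {s : R} (hr : r ≤ d)
    (hfg : ∀ i, (f i).comp (g i) = s • LinearMap.id) (hgf : ∀ i, (g i).comp (f i) = s • LinearMap.id)
    {A B K : Type w} [CommRing A] [Algebra R A] [IsLocalRing A] [CommRing B] [Algebra R B] [IsLocalRing B]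
    [Field K] [Algebra R K] (φ : A →ₐ[R] B) (hφ : Function.Surjective φ)
    (ψ : B →ₐ[R] K) (hψ : Function.Surjective ψ)
    (V : Fin (n + 1) → Grassmannian B (B ⊗[R] (Fin d → R)) (d - r)) (hV : V ∈ LGPoints R d r n f g B)
    (hgen : HasGen f g (fun i => Grassmannian.map ψ (V i))) :
    ∃ W ∈ LGPoints R d r n f g A, ∀ i, Grassmannian.map φ (W i) = V i := by
  obtain ⟨τ, c, hτ, hc, hspan⟩ := hgen
  have hc1 : ∀ a, ∃ x ∈ exV V (τ a), bcM (Fin d → R) ψ x = c a := by
    intro a
    have h := hc a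
    rw [exV_of_le _ (hτ a)] at h
    rw [exV_of_le V (hτ a)]
    exact exists_mem_bcM ψ hψ _ h
  choose c1 hc1 hc1' using hc1
  choose c2 hc2 using fun a => bcM_surjective (Fin d → R) φ hφ (c1 a)
  have hind : ∀ i ≤ n, LinearIndependent K (fun a => push (ex f K) (ex g K) (τ a) i (c a)) :=
    fun i hi => linearIndependent_push hr hspan hi
  have hq1 : ∀ i ≤ n, IsQuotRank (d - r) (spanT (ex f B) (ex g B) τ c1 i) := by
    intro i hi
    apply isQuotRank_span ψ hψ
    have : (fun a => bcM (Fin d → R) ψ (push (ex f B) (ex g B) (τ a) i (c1 a))) =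
        fun a => push (ex f K) (ex g K) (τ a) i (c a) := by
      ext1 a
      rw [push_bcM ψ (hτ a) hi, hc1']
    rw [this]
    exact hind i hi
  have hle1 : ∀ i ≤ n, spanT (ex f B) (ex g B) τ c1 i = exV V i := by
    intro i hi
    have hle : spanT (ex f B) (ex g B) τ c1 i ≤ exV V i := by
      rw [spanT, Submodule.span_le]
      rintro _ ⟨a, rfl⟩
      exact push_mem (n := n) (V := exV V) (fun j hj => map_F_exV hV hj) (fun j hj => map_G_exV hV hj) (hτ a) hi (hc1 a)
    rw [exV_of_le V hi] at hle ⊢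
    exact eq_of_le_of_isQuotRank hle (hq1 i hi) (isQuotRank_point _)
  have hq2 : ∀ i ≤ n, IsQuotRank (d - r) (spanT (ex f A) (ex g A) τ c2 i) := by
    intro i hi
    apply isQuotRank_span (ψ.comp φ) (hψ.comp hφ)
    have : (fun a => bcM (Fin d → R) (ψ.comp φ) (push (ex f A) (ex g A) (τ a) i (c2 a))) =
        fun a => push (ex f K) (ex g K) (τ a) i (c a) := by
      ext1 a
      have h0 : ∀ x, bcM (Fin d → R) (ψ.comp φ) x = bcM (Fin d → R) ψ (bcM (Fin d → R) φ x) := by
        intro x
        induction x using TensorProduct.induction_on with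
        | zero => simp
        | tmul a m => simp
        | add x y hx hy => simp only [map_add, hx, hy]
      rw [push_bcM (ψ.comp φ) (hτ a) hi, h0, hc2, hc1']
    rw [this]
    exact hind i hi
  let W : Fin (n + 1) → Grassmannian A (A ⊗[R] (Fin d → R)) (d - r) :=
    fun i => mkPoint (hq2 i (by omega))
  have hW : ∀ i ≤ n, exV W i = spanT (ex f A) (ex g A) τ c2 i := fun i hi => exV_of_le W hi
  refine ⟨W, ?_, ?_⟩
  · rw [mem_LGPoints_iff]
    intro i hi
    rw [hW i hi.le, hW (i + 1) hi]
    exact ⟨map_F_spanT (ex_comp hfg A) hi, map_G_spanT (ex_comp hgf A) hi⟩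
  · intro i
    apply Grassmannian.ext
    have hi : (i : ℕ) ≤ n := by omega
    have h1 : (V i).toSubmodule = spanT (ex f B) (ex g B) τ c1 i := by
      rw [hle1 i hi, exV_of_le V hi]
    rw [map_toSubmodule_eq_span, h1]
    have h2 : (W i).toSubmodule = spanT (ex f A) (ex g A) τ c2 i := rfl
    rw [h2]
    apply le_antisymm
    · rw [Submodule.span_le]
      rintro _ ⟨x, hx, rfl⟩
      rw [SetLike.mem_coe, spanT] at hx
      induction hx using Submodule.span_induction with
      | mem x h =>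
        obtain ⟨a, rfl⟩ := h
        change bcM (Fin d → R) φ (push (ex f A) (ex g A) (τ a) i (c2 a)) ∈ _
        rw [push_bcM φ (hτ a) hi, hc2]
        exact push_mem_spanT _ _
      | zero => rw [map_zero]; exact zero_mem _
      | add x y _ _ hx hy => rw [map_add]; exact add_mem hx hy
      | smul c y _ hy => rw [bcM_smul]; exact Submodule.smul_mem _ _ hy
    · rw [spanT, Submodule.span_le]
      rintro _ ⟨a, rfl⟩
      apply Submodule.subset_span
      refine ⟨push (ex f A) (ex g A) (τ a) i (c2 a), push_mem_spanT _ _, ?_⟩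
      rw [push_bcM φ (hτ a) hi, hc2]

end K189.Lift
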