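import Mathlib.RingTheory.Smooth.Basic
import Mathlib.RingTheory.RingHom.Smooth
import Mathlib.AlgebraicGeometry.Stalk
import Mathlib.AlgebraicGeometry.Morphisms.FinitePresentation
import Mathlib.Algebra.Category.CommAlgCat.Basic
import Mathlib.CategoryTheory.Comma.Over.Basic

/-!
Formal smoothness of a local ring of a scheme over an affine base from the lifting property for
local rings.
-/

set_option autoImplicit false
universe u v w

namespace K189.LocLift

/-- a local algebra is formally smooth as soon as it is a retract of every local algebra mapping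
onto it -/
theorem formallySmooth_of_local {R O : Type u} [CommRing R] [CommRing O] [Algebra R O] [IsLocalRing O]
    (H : ∀ (A : Type u) [CommRing A] [Algebra R A] [IsLocalRing A] (φ : A →ₐ[R] O),
      Function.Surjective φ → ∃ γ : O →ₐ[R] A, φ.comp γ = AlgHom.id R O) :
    Algebra.FormallySmooth R O := by
  let q : MvPolynomial O R →ₐ[R] O := MvPolynomial.aeval id
  have hq : Function.Surjective q := fun a => ⟨MvPolynomial.X a, by simp [q]⟩
  let p : Ideal (MvPolynomial O R) := (IsLocalRing.maximalIdeal O).comap q
  have hp : p.IsPrime := Ideal.IsPrime.comap q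
  have hunit : ∀ y : p.primeCompl, IsUnit (q y) := by
    intro y
    by_contra h
    exact y.2 (show q y ∈ IsLocalRing.maximalIdeal O from (IsLocalRing.mem_maximalIdeal _).2 h)
  let f : Localization.AtPrime p →ₐ[R] O := IsLocalization.liftAlgHom (M := p.primeCompl) (f := q) hunit
  have hf : Function.Surjective f := by
    intro a
    obtain ⟨x, hx⟩ := hq a
    refine ⟨algebraMap _ _ x, ?_⟩
    rw [IsLocalization.liftAlgHom_apply, IsLocalization.lift_eq]
    exact hx
  haveI : Algebra.FormallySmooth R (Localization.AtPrime p) := inferInstance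
  rw [Algebra.FormallySmooth.iff_split_surjection f hf]
  have hle : RingHom.ker f.toRingHom ^ 2 ≤ IsLocalRing.maximalIdeal (Localization.AtPrime p) := by
    refine (Ideal.pow_le_self two_ne_zero).trans (IsLocalRing.le_maximalIdeal ?_)
    exact RingHom.ker_ne_top _
  haveI : Nontrivial (Localization.AtPrime p ⧸ RingHom.ker f.toRingHom ^ 2) :=
    Ideal.Quotient.nontrivial_iff.2 (fun h => (IsLocalRing.maximalIdeal.isMaximal _).ne_top
      (top_le_iff.1 (h ▸ hle)))
  haveI : IsLocalRing (Localization.AtPrime p ⧸ RingHom.ker f.toRingHom ^ 2) :=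
    IsLocalRing.of_surjective' (Ideal.Quotient.mk _) Ideal.Quotient.mk_surjective
  apply H (Localization.AtPrime p ⧸ RingHom.ker f.toRingHom ^ 2) f.kerSquareLift
  intro a
  obtain ⟨x, hx⟩ := hf a
  exact ⟨Ideal.Quotient.mk _ x, hx⟩

open AlgebraicGeometry CategoryTheory

variable {R : Type u} [CommRing R]

/-- the structure map of a local ring of a scheme over `Spec R` -/
noncomputable def structMap (X : Over (Spec (CommRingCat.of R))) (pt : X.left) :
    CommRingCat.of R ⟶ X.left.presheaf.stalk pt :=
  Spec.preimage (X.left.fromSpecStalk pt ≫ X.hom)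

theorem map_structMap (X : Over (Spec (CommRingCat.of R))) (pt : X.left) :
    Spec.map (structMap X pt) = X.left.fromSpecStalk pt ≫ X.hom := Spec.map_preimage _

/-- the local ring of a scheme over `Spec R` as an `R`-algebra -/
noncomputable def stalkAlg (X : Over (Spec (CommRingCat.of R))) (pt : X.left) : CommAlgCat.{u} R :=
  letI := (structMap X pt).hom.toAlgebra
  CommAlgCat.of R (X.left.presheaf.stalk pt)

instance (X : Over (Spec (CommRingCat.of R))) (pt : X.left) : IsLocalRing (stalkAlg X pt) :=
  inferInstanceAs (IsLocalRing (X.left.presheaf.stalk pt))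

theorem algebraMap_stalkAlg (X : Over (Spec (CommRingCat.of R))) (pt : X.left) :
    CommRingCat.ofHom (algebraMap R (stalkAlg X pt)) = structMap X pt := rfl

/-- the tautological point with values in the local ring -/
noncomputable def fromStalk (X : Over (Spec (CommRingCat.of R))) (pt : X.left) :
    Over.mk (Spec.map (CommRingCat.ofHom (algebraMap R (stalkAlg X pt)))) ⟶ X :=
  Over.homMk (X.left.fromSpecStalk pt) (map_structMap X pt).symm

theorem fromStalk_left (X : Over (Spec (CommRingCat.of R))) (pt : X.left) :
    (fromStalk X pt).left = X.left.fromSpecStalk pt := rfl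

/-- a morphism from the spectrum of a local ring onto which the spectrum of the local ring at `pt`
maps induces a section of the surjection -/
theorem exists_section {X : Over (Spec (CommRingCat.of R))} {pt : X.left} {A : Type u} [CommRing A]
    [Algebra R A] [IsLocalRing A] (φ : A →ₐ[R] stalkAlg X pt) (hφ : Function.Surjective φ)
    (y : Over.mk (Spec.map (CommRingCat.ofHom (algebraMap R A))) ⟶ X)
    (hy : Spec.map (CommRingCat.ofHom φ.toRingHom) ≫ y.left = X.left.fromSpecStalk pt) :
    ∃ γ : stalkAlg X pt →ₐ[R] A, φ.comp γ = AlgHom.id R _ := by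
  haveI hloc : IsLocalHom φ.toRingHom := Function.Surjective.isLocalHom (f := φ.toRingHom) hφ
  haveI : IsLocalHom (CommRingCat.ofHom φ.toRingHom).hom := hloc
  haveI : IsLocalRing (CommRingCat.of A) := ‹IsLocalRing A›
  haveI : IsLocalRing (X.left.presheaf.stalk pt) := inferInstance
  have hcp : Spec.map (CommRingCat.ofHom φ.toRingHom)
      (IsLocalRing.closedPoint (CommRingCat.of (stalkAlg X pt))) =
      IsLocalRing.closedPoint (CommRingCat.of A) := by
    exact Spec_closedPoint
  have hpt : y.left (IsLocalRing.closedPoint (CommRingCat.of A)) = pt := by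
    rw [← hcp]
    have h := congrArg (fun F => F (IsLocalRing.closedPoint (X.left.presheaf.stalk pt))) hy
    exact h.trans Scheme.fromSpecStalk_closedPoint
  have key : ∀ (q : X.left) (_ : y.left (IsLocalRing.closedPoint (CommRingCat.of A)) = q),
      ∃ γ : X.left.presheaf.stalk q ⟶ CommRingCat.of A,
        Spec.map γ ≫ X.left.fromSpecStalk q = y.left := by
    rintro _ rfl
    exact ⟨_, Scheme.Spec_stalkClosedPointTo_fromSpecStalk _⟩
  obtain ⟨γ, hγ⟩ := key pt hpt
  have halg : structMap X pt ≫ γ = CommRingCat.ofHom (algebraMap R A) := by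
    apply Spec.map_injective
    rw [Spec.map_comp, map_structMap, reassoc_of% hγ]
    exact Over.w y
  have hsec : γ ≫ CommRingCat.ofHom φ.toRingHom = 𝟙 _ := by
    apply Spec.map_injective
    rw [← cancel_mono (X.left.fromSpecStalk pt), Spec.map_comp, Category.assoc, hγ]
    refine hy.trans ?_
    exact ((congrArg (· ≫ X.left.fromSpecStalk pt) (Spec.map_id _)).trans (Category.id_comp _)).symm
  refine ⟨{ γ.hom with commutes' := fun a => ?_ }, ?_⟩
  · exact congrArg (fun F => F.hom a) halg
  · ext a
    exact congrArg (fun F => F.hom a) hsec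

theorem structMap_eq (X : Over (Spec (CommRingCat.of R))) (pt : X.left) :
    structMap X pt = ((Scheme.ΓSpecIso (CommRingCat.of R)).inv ≫
      (Spec (CommRingCat.of R)).presheaf.germ ⊤ (X.hom pt) trivial) ≫ X.hom.stalkMap pt := by
  apply Spec.map_injective
  rw [map_structMap, Spec.map_comp, ← Spec.fromSpecStalk_eq, Scheme.SpecMap_stalkMap_fromSpecStalk]

theorem formallySmooth_of_stalk {p : PrimeSpectrum R} {O : Type u} [CommRing O]
    (σ : (Spec.structureSheaf R).presheaf.stalk p →+* O) (ρ : R →+* O)
    (hρ : ρ = σ.comp (algebraMap R ((Spec.structureSheaf R).presheaf.stalk p)))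
    (h : ρ.FormallySmooth) : σ.FormallySmooth := by
  letI : Algebra ((Spec.structureSheaf R).presheaf.stalk p) O := σ.toAlgebra
  letI : Algebra R O := ρ.toAlgebra
  haveI : IsScalarTower R ((Spec.structureSheaf R).presheaf.stalk p) O :=
    IsScalarTower.of_algebraMap_eq' hρ
  haveI : Algebra.FormallySmooth R O := h
  exact Algebra.FormallySmooth.localization_base (Sₘ := O) p.asIdeal.primeCompl

theorem formallySmooth_stalkMap (X : Over (Spec (CommRingCat.of R))) (pt : X.left)
    (h : Algebra.FormallySmooth R (stalkAlg X pt)) : (X.hom.stalkMap pt).hom.FormallySmooth :=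
  formallySmooth_of_stalk (p := X.hom pt) (O := X.left.presheaf.stalk pt) (X.hom.stalkMap pt).hom
    (structMap X pt).hom (congrArg (fun F => F.hom) (structMap_eq X pt)) h

end K189.LocLift
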