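import Groth.Agent.W4c1limliniiii.K189.Lift
import Groth.Agent.W4c1limliniiii.K189.LocLift

/-!
Formal smoothness of the linked Grassmannian at points whose tuple is generated by vectors placed at
the vertices.
-/

set_option autoImplicit false
universe u v w
open TensorProduct Module AlgebraicGeometry CategoryTheory

namespace K189.Smooth

open K189.Lift K189.LocLift W4c1limliniiii

variable {R : Type u} [CommRing R] {d r n : ℕ} {f g : Fin n → ((Fin d → R) →ₗ[R] (Fin d → R))}
  {X : Over (Spec (CommRingCat.of R))}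

theorem formallySmooth_stalkAlg {s : R} (hr : r ≤ d)
    (hfg : ∀ i, (f i).comp (g i) = s • LinearMap.id) (hgf : ∀ i, (g i).comp (f i) = s • LinearMap.id)
    (e : ∀ A : CommAlgCat.{u} R,
      (Over.mk (Spec.map (CommRingCat.ofHom (algebraMap R A))) ⟶ X) ≃ LGPoints R d r n f g A)
    (he : ∀ (A B : CommAlgCat.{u} R) (φ : A ⟶ B)
      (x : Over.mk (Spec.map (CommRingCat.ofHom (algebraMap R A))) ⟶ X)
      (x' : Over.mk (Spec.map (CommRingCat.ofHom (algebraMap R B))) ⟶ X),
      x'.left = Spec.map (CommRingCat.ofHom φ.hom.toRingHom) ≫ x.left →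
        ∀ i, (e B x').1 i = Module.Grassmannian.map φ.hom ((e A x).1 i))
    (pt : X.left) {K : Type u} [Field K] [Algebra R K] (ψ : stalkAlg X pt →ₐ[R] K)
    (hψ : Function.Surjective ψ)
    (z : Over.mk (Spec.map (CommRingCat.ofHom (algebraMap R K))) ⟶ X)
    (hz : z.left = Spec.map (CommRingCat.ofHom ψ.toRingHom) ≫ X.left.fromSpecStalk pt)
    (hgen : HasGen f g (e (CommAlgCat.of R K) z).1) :
    Algebra.FormallySmooth R (stalkAlg X pt) := by
  apply formallySmooth_of_local
  intro A _ _ _ φ hφ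
  let V := e (stalkAlg X pt) (fromStalk X pt)
  have hV : ∀ i, (e (CommAlgCat.of R K) z).1 i = Grassmannian.map ψ (V.1 i) :=
    fun i => by
      let Ψ : CommAlgCat.of R (stalkAlg X pt) ⟶ CommAlgCat.of R K := CommAlgCat.ofHom ψ
      exact he (stalkAlg X pt) _ Ψ (fromStalk X pt) z hz i
  have hgen' : HasGen f g (fun i => Grassmannian.map ψ (V.1 i)) := by
    have h0 : (fun i => Grassmannian.map ψ (V.1 i)) = (e (CommAlgCat.of R K) z).1 :=
      funext fun i => (hV i).symm
    rw [h0]
    exact hgen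
  obtain ⟨W, hW, hWV⟩ := exists_lift hr hfg hgf φ hφ ψ hψ V.1 V.2 hgen'
  let y : Over.mk (Spec.map (CommRingCat.ofHom (algebraMap R A))) ⟶ X :=
    (e (CommAlgCat.of R A)).symm ⟨W, hW⟩
  apply exists_section φ hφ y
  let q : Spec (CommRingCat.of (stalkAlg X pt)) ⟶ X.left :=
    Spec.map (CommRingCat.ofHom φ.toRingHom) ≫ y.left
  have hw : q ≫ X.hom = Spec.map (CommRingCat.ofHom (algebraMap R (stalkAlg X pt))) := by
    refine (Category.assoc _ _ _).trans ?_
    refine (congrArg (Spec.map (CommRingCat.ofHom φ.toRingHom) ≫ ·) (Over.w y)).trans ?_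
    refine (Spec.map_comp _ _).symm.trans ?_
    have h1 := φ.comp_algebraMap
    exact congrArg (fun F => Spec.map (CommRingCat.ofHom F)) h1
  let y' : Over.mk (Spec.map (CommRingCat.ofHom (algebraMap R (stalkAlg X pt)))) ⟶ X :=
    Over.homMk q hw
  have h : y' = fromStalk X pt := by
    apply (e (stalkAlg X pt)).injective
    apply Subtype.ext
    funext i
    let Φ : CommAlgCat.of R A ⟶ CommAlgCat.of R (stalkAlg X pt) := CommAlgCat.ofHom φ
    rw [he (CommAlgCat.of R A) (stalkAlg X pt) Φ y y' rfl i]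
    have h1 : e (CommAlgCat.of R A) y = ⟨W, hW⟩ := Equiv.apply_symm_apply _ _
    rw [h1]
    exact hWV i
  exact congrArg (fun F => F.left) h

end K189.Smooth
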