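import Groth.Agent.CycB.RelDim2

/-!
Transcendence degrees: fields generated by finitely many elements, rational function fields, and
the structure map of a residue field.
-/

set_option autoImplicit false
universe u

open Module Cardinal Groth.Agent.CycB.TrdegAlg

namespace K189.Trd

theorem trd_le_of_generated {K L : Type u} [Field K] [Field L] (φ : K →+* L) {ι : Type} [Fintype ι]
    (x : ι → L) (h : ∀ S : Subfield L, φ.fieldRange ≤ S → (∀ i, x i ∈ S) → S = ⊤) :
    trd φ ≤ (Fintype.card ι : ℕ) := by
  letI : Algebra K L := φ.toAlgebra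
  have h1 : (IntermediateField.adjoin K (Set.range x)).toSubfield = ⊤ := by
    apply h
    · rintro _ ⟨a, rfl⟩
      exact (IntermediateField.adjoin K (Set.range x)).algebraMap_mem a
    · intro i
      exact IntermediateField.subset_adjoin K _ ⟨i, rfl⟩
  haveI : Algebra.IsAlgebraic (Algebra.adjoin K (Set.range x)) L := ⟨fun z => by
    have hz : z ∈ IntermediateField.adjoin K (Set.range x) := by
      change z ∈ (IntermediateField.adjoin K (Set.range x)).toSubfield
      rw [h1]
      trivial
    obtain ⟨a, ha, b, hb, rfl⟩ := IntermediateField.mem_adjoin_iff_div.1 hz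
    rw [div_eq_mul_inv]
    exact (isAlgebraic_algebraMap (⟨a, ha⟩ : Algebra.adjoin K (Set.range x))).mul
      ((isAlgebraic_algebraMap (⟨b, hb⟩ : Algebra.adjoin K (Set.range x))).inv)⟩
  refine (Algebra.IsAlgebraic.trdeg_le_cardinalMk K (Set.range x)).trans ?_
  have h2 : Cardinal.lift.{0} (Cardinal.mk (Set.range x)) ≤ Cardinal.lift.{u} (Cardinal.mk ι) :=
    Cardinal.mk_range_le_lift
  rw [Cardinal.lift_uzero] at h2
  refine h2.trans ?_
  rw [Cardinal.mk_fintype, Cardinal.lift_natCast]

/-- rational functions -/
theorem trd_ratfun (F : Type u) [Field F] (ι : Type) [Fintype ι] :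
    trd (algebraMap F (FractionRing (MvPolynomial ι F))) = (Fintype.card ι : ℕ) := by
  rw [trd_algebraMap]
  rw [trdeg_fractionField F (MvPolynomial ι F) F (FractionRing (MvPolynomial ι F)),
    MvPolynomial.trdeg_of_isDomain, Cardinal.mk_fintype, Cardinal.lift_natCast]

theorem subfield_eq_top_of_ratfun {F : Type u} [Field F] {ι : Type}
    (S : Subfield (FractionRing (MvPolynomial ι F)))
    (h1 : ∀ a : F, algebraMap F (FractionRing (MvPolynomial ι F)) a ∈ S)
    (h2 : ∀ i, algebraMap (MvPolynomial ι F) (FractionRing (MvPolynomial ι F)) (MvPolynomial.X i) ∈ S) :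
    S = ⊤ := by
  have h3 : ∀ p : MvPolynomial ι F, algebraMap _ (FractionRing (MvPolynomial ι F)) p ∈ S := by
    intro p
    induction p using MvPolynomial.induction_on with
    | C a => exact h1 a
    | add p q hp hq => rw [map_add]; exact add_mem hp hq
    | mul_X p i hp => rw [map_mul]; exact mul_mem hp (h2 i)
  rw [eq_top_iff]
  intro z _
  obtain ⟨a, b, -, rfl⟩ := IsFractionRing.div_surjective (A := MvPolynomial ι F) z
  exact div_mem (h3 a) (h3 b)

open AlgebraicGeometry CategoryTheory Groth.Agent.CycB.RelDim

theorem exists_alpha {k : CommRingCat.{u}} (hk : IsField k) (p : PrimeSpectrum k) :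
    ∃ α : k ⟶ (Spec k).residueField p, Function.Surjective α.hom ∧
      Spec.map α = (Spec k).fromSpecResidueField p := by
  refine ⟨CommRingCat.ofHom (algebraMap k p.asIdeal.ResidueField) ≫
      (Scheme.Spec.residueFieldIso k p).inv, ?_, ?_⟩
  · haveI : p.asIdeal.IsMaximal := by
      have h4 : p.asIdeal = ⊥ := by
        letI := hk.toField
        rcases Ideal.eq_bot_or_top (K := k) p.asIdeal with h | h
        · exact h
        · exact absurd h p.2.ne_top
      letI := hk.toField
      rw [h4]
      exact Ideal.bot_isMaximal (K := k)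
    intro z
    obtain ⟨a, ha⟩ := p.asIdeal.algebraMap_residueField_surjective
      ((Scheme.Spec.residueFieldIso k p).hom.hom z)
    refine ⟨a, ?_⟩
    change (Scheme.Spec.residueFieldIso k p).inv.hom (algebraMap k _ a) = z
    rw [ha]
    exact congrArg (fun F => F.hom z) (Scheme.Spec.residueFieldIso k p).hom_inv_id
  · rw [Spec.map_comp]
    exact Scheme.Spec.map_residueFieldIso_inv_eq_fromSpecResidueField k p

/-- the residual transcendence degree over a field -/
theorem rtd_eq {k : Type u} [Field k] {X : Scheme.{u}} (f : X ⟶ Spec (CommRingCat.of k)) (x : X)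
    (ψ : k →+* X.residueField x)
    (hψ : X.fromSpecResidueField x ≫ f = Spec.map (CommRingCat.ofHom ψ)) : rtd f x = trd ψ := by
  obtain ⟨α, h3, hα⟩ := exists_alpha (k := CommRingCat.of k) (Field.toIsField k) (f x)
  have h1 : CommRingCat.ofHom ψ = α ≫ f.residueFieldMap x := by
    apply Spec.map_injective
    rw [← hψ, Spec.map_comp, hα]
    exact (Scheme.Hom.SpecMap_residueFieldMap_fromSpecResidueField f x).symm
  have h2 : ψ = (f.residueFieldMap x).hom.comp α.hom := congrArg (fun F => F.hom) h1
  rw [h2, trd_comp_surjective' (K := k) (L := (Spec (CommRingCat.of k)).residueField (f x)) _ _ h3]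
  rfl

/-- dimension of the closure of a point -/
theorem dim_closure_eq {k : Type u} [Field k] {X : Scheme.{u}} (f : X ⟶ Spec (CommRingCat.of k))
    [LocallyOfFiniteType f] (x : X) (ψ : k →+* X.residueField x)
    (hψ : X.fromSpecResidueField x ≫ f = Spec.map (CommRingCat.ofHom ψ)) (N : ℕ)
    (hN : trd ψ = N) : topologicalKrullDim (closure {x} : Set X) = N := by
  have hF : IsField Γ(Spec (CommRingCat.of k), ⊤) := by
    have e := (Scheme.ΓSpecIso (CommRingCat.of k)).commRingCatIsoToRingEquiv
    exact e.toMulEquiv.isField (Field.toIsField k)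
  obtain ⟨n, h1, h2⟩ := exists_dim_closure f (isAffineOpen_top _) hF x
  rw [rtd_eq f x ψ hψ, hN] at h1
  have h3 : N = n := by exact_mod_cast h1
  rw [h2, h3]

end K189.Trd
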