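import Groth.Agent.Sga3B.AffYoneda
import Mathlib.Algebra.Category.CommAlgCat.Basic
import Mathlib.AlgebraicGeometry.Noetherian

/-!
A scheme over an affine base is determined by its points with values in algebras over the base ring.
-/

set_option autoImplicit false
universe u v w
open AlgebraicGeometry CategoryTheory

namespace K189.Uniq

variable {k : Type u} [CommRing k] {X X' : Over (Spec (CommRingCat.of k))}

/-- the algebra attached to a ring map -/
def algOf {B : CommRingCat.{u}} (φ : CommRingCat.of k ⟶ B) : CommAlgCat.{u} k :=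
  letI := φ.hom.toAlgebra
  CommAlgCat.of k B

/-- points with values in an algebra -/
abbrev Pt (X : Over (Spec (CommRingCat.of k))) (A : CommAlgCat.{u} k) :=
  Over.mk (Spec.map (CommRingCat.ofHom (algebraMap k A))) ⟶ X

/-- a point from a morphism -/
noncomputable def mkPt {B : CommRingCat.{u}} (φ : CommRingCat.of k ⟶ B) (t : Spec B ⟶ X.left)
    (h : t ≫ X.hom = Spec.map φ) : Pt X (algOf φ) := Over.homMk t h

theorem mkPt_left {B : CommRingCat.{u}} (φ : CommRingCat.of k ⟶ B) (t : Spec B ⟶ X.left)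
    (h : t ≫ X.hom = Spec.map φ) : (mkPt φ t h).left = t := rfl

/-- a map of algebras from a compatible map of rings -/
def mkHom {B C : CommRingCat.{u}} (φ : CommRingCat.of k ⟶ B) (ρ : B ⟶ C) (φ' : CommRingCat.of k ⟶ C)
    (h : φ ≫ ρ = φ') : algOf φ ⟶ algOf φ' :=
  letI := φ.hom.toAlgebra
  letI := φ'.hom.toAlgebra
  let F : B →ₐ[k] C := { ρ.hom with commutes' := fun a => congrArg (fun F => F.hom a) h }
  CommAlgCat.ofHom F

section

variable
    (E : ∀ A : CommAlgCat.{u} k, Pt X A → Pt X' A)
    (hE : ∀ (A B : CommAlgCat.{u} k) (φ : A ⟶ B) (x : Pt X A) (x' : Pt X B),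
      x'.left = Spec.map (CommRingCat.ofHom φ.hom.toRingHom) ≫ x.left →
        (E B x').left = Spec.map (CommRingCat.ofHom φ.hom.toRingHom) ≫ (E A x).left)

/-- the transformation on underlying morphisms -/
noncomputable def app {B : CommRingCat.{u}} (φ : CommRingCat.of k ⟶ B) (t : Spec B ⟶ X.left)
    (h : t ≫ X.hom = Spec.map φ) : Spec B ⟶ X'.left := (E (algOf φ) (mkPt φ t h)).left

theorem app_w {B : CommRingCat.{u}} (φ : CommRingCat.of k ⟶ B) (t : Spec B ⟶ X.left)
    (h : t ≫ X.hom = Spec.map φ) : app E φ t h ≫ X'.hom = Spec.map φ :=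
  Over.w (E (algOf φ) (mkPt φ t h))

/-- the identity as a map of algebras -/
def idHom (A : CommAlgCat.{u} k) : A ⟶ algOf (CommRingCat.ofHom (algebraMap k A)) :=
  let F : A →ₐ[k] (algOf (CommRingCat.ofHom (algebraMap k A))) :=
    { toRingHom := (RingHom.id A : A →+* A), commutes' := fun _ => rfl }
  let G : CommAlgCat.of k A ⟶ CommAlgCat.of k (algOf (CommRingCat.ofHom (algebraMap k A))) :=
    CommAlgCat.ofHom F
  G

include hE in
theorem app_of (A : CommAlgCat.{u} k) (x : Pt X A) :
    app E (CommRingCat.ofHom (algebraMap k A)) x.left (Over.w x) = (E A x).left := by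
  have h : ∀ {Z : Scheme.{u}} (t : Spec (CommRingCat.of A) ⟶ Z),
      t = Spec.map (𝟙 (CommRingCat.of A)) ≫ t := by
    intro Z t
    rw [Spec.map_id, Category.id_comp]
  exact (hE A _ (idHom A) x (mkPt (CommRingCat.ofHom (algebraMap k A)) x.left (Over.w x))
    (h x.left)).trans (h _).symm

include hE in
theorem app_nat {B C : CommRingCat.{u}} (φ : CommRingCat.of k ⟶ B) (ρ : B ⟶ C)
    (φ' : CommRingCat.of k ⟶ C) (h : φ ≫ ρ = φ') (t : Spec B ⟶ X.left) (ht : t ≫ X.hom = Spec.map φ)
    (t' : Spec C ⟶ X.left) (ht' : t' ≫ X.hom = Spec.map φ') (htt : t' = Spec.map ρ ≫ t) :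
    app E φ' t' ht' = Spec.map ρ ≫ app E φ t ht :=
  hE _ _ (mkHom φ ρ φ' h) (mkPt φ t ht) (mkPt φ' t' ht') htt

include hE in
/-- **Yoneda** for points with values in algebras -/
theorem exists_hom : ∃ i : X ⟶ X', ∀ (A : CommAlgCat.{u} k) (x : Pt X A), x ≫ i = E A x := by
  have hw : ∀ {B : CommRingCat.{u}} (s : Spec B ⟶ Spec (CommRingCat.of k)) (g : Over.mk s ⟶ X),
      g.left ≫ X.hom = Spec.map (Spec.preimage s) := by
    intro B s g
    rw [Spec.map_preimage]
    exact Over.w g
  let F : ∀ (B : CommRingCat.{u}) (s : Spec B ⟶ Spec (CommRingCat.of k)), (Over.mk s ⟶ X) →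
      (Over.mk s ⟶ X') := fun B s g =>
    Over.homMk (app E (Spec.preimage s) g.left (hw s g))
      ((app_w E (Spec.preimage s) g.left (hw s g)).trans (Spec.map_preimage s))
  have hF : ∀ (B : CommRingCat.{u}) (s : Spec B ⟶ Spec (CommRingCat.of k)) (g : Over.mk s ⟶ X),
      (F B s g).left = app E (Spec.preimage s) g.left (hw s g) := fun _ _ _ => rfl
  obtain ⟨i, hi, -⟩ := Groth.Agent.Sga3B.AffYoneda.existsUnique_hom F (by
    intro B B' s s' h g
    ext1
    have h1 : Spec.preimage s ≫ Spec.preimage h.left = Spec.preimage s' := by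
      apply Spec.map_injective
      rw [Spec.map_comp, Spec.map_preimage, Spec.map_preimage, Spec.map_preimage]
      exact Over.w h
    have h2 := app_nat E hE (Spec.preimage s) (Spec.preimage h.left) (Spec.preimage s') h1
      g.left (hw s g) (h ≫ g).left (hw s' _) (by rw [Spec.map_preimage]; rfl)
    rw [hF, h2, Spec.map_preimage]
    rfl)
  refine ⟨i, fun A x => ?_⟩
  ext1
  let s : Spec (CommRingCat.of A) ⟶ Spec (CommRingCat.of k) :=
    Spec.map (CommRingCat.ofHom (algebraMap k A))
  have h1 := congrArg (fun F => F.left) (hi (CommRingCat.of A) s x)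
  refine h1.trans ?_
  have h2 : CommRingCat.ofHom (algebraMap k A) ≫ 𝟙 (CommRingCat.of A) = Spec.preimage s := by
    apply Spec.map_injective
    rw [Category.comp_id, Spec.map_preimage]
  have h3 := app_nat E hE (CommRingCat.ofHom (algebraMap k A)) (𝟙 _) (Spec.preimage s) h2 x.left
    (Over.w x) x.left (hw s x) (by rw [Spec.map_id, Category.id_comp])
  refine (hF _ s x).trans (h3.trans ?_)
  rw [Spec.map_id, Category.id_comp]
  exact app_of E hE A x

end

/-- naturally bijective points ⇒ isomorphic schemes -/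
theorem exists_iso
    (E : ∀ A : CommAlgCat.{u} k, Pt X A ≃ Pt X' A)
    (hE : ∀ (A B : CommAlgCat.{u} k) (φ : A ⟶ B) (x : Pt X A) (x' : Pt X B),
      x'.left = Spec.map (CommRingCat.ofHom φ.hom.toRingHom) ≫ x.left →
        (E B x').left = Spec.map (CommRingCat.ofHom φ.hom.toRingHom) ≫ (E A x).left) :
    ∃ i : X ≅ X', ∀ (A : CommAlgCat.{u} k) (x : Pt X A), x ≫ i.hom = E A x := by
  obtain ⟨i, hi⟩ := exists_hom (fun A => E A) hE
  obtain ⟨j, hj⟩ := exists_hom (X := X') (X' := X) (fun A => (E A).symm) (by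
    intro A B φ x x' h
    -- apply `hE` to the preimages
    let y : Pt X A := (E A).symm x
    let y' : Pt X B := Over.homMk (Spec.map (CommRingCat.ofHom φ.hom.toRingHom) ≫ y.left) (by
      rw [Category.assoc]
      refine (congrArg (Spec.map (CommRingCat.ofHom φ.hom.toRingHom) ≫ ·) (Over.w y)).trans ?_
      refine (Spec.map_comp _ _).symm.trans ?_
      exact congrArg (fun F => Spec.map (CommRingCat.ofHom F)) φ.hom.comp_algebraMap)
    have h1 : E B y' = x' := by
      ext1
      rw [hE A B φ y y' rfl, h]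
      change _ ≫ (E A ((E A).symm x)).left = _
      rw [Equiv.apply_symm_apply]
    have h2 : (E B).symm x' = y' := by rw [← h1, Equiv.symm_apply_apply]
    change ((E B).symm x').left = _
    rw [h2]
    rfl)
  have key : ∀ (Y Z : Over (Spec (CommRingCat.of k))) (a b : Y ⟶ Z),
      (∀ (A : CommAlgCat.{u} k) (x : Pt Y A), x ≫ a = x ≫ b) → a = b := by
    intro Y Z a b h
    apply Groth.Agent.Sga3B.AffYoneda.hom_ext
    intro B s x
    ext1
    have h0 : x.left ≫ Y.hom = Spec.map (Spec.preimage s) := by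
      rw [Spec.map_preimage]
      exact Over.w x
    exact congrArg (fun F => F.left) (h (algOf (Spec.preimage s)) (mkPt (Spec.preimage s) x.left h0))
  refine ⟨⟨i, j, ?_, ?_⟩, hi⟩
  · apply key
    intro A x
    rw [← Category.assoc, hi, hj, Category.comp_id, Equiv.symm_apply_apply]
  · apply key
    intro A x
    rw [← Category.assoc, hj, hi, Category.comp_id, Equiv.apply_symm_apply]

end K189.Uniq
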