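import Groth.Agent.W4c1limliniiii.K189.Trd
import Groth.Agent.W4c1limliniiii.K189.Ech
import Groth.Agent.W4c1limliniiii.K678.Points

/-!
Upper bound for the transcendence degree of the residue field at an exact point of a linked
Grassmannian over a field.
-/

set_option autoImplicit false
universe u

open Module CategoryTheory AlgebraicGeometry
open Groth.Agent.CycB.TrdegAlg

namespace K189.Upper

open K652.AffYoneda Groth.Agent.Fga.GrassBasic K678.LG K678.LocSpan K678.Exact K678.Pts K189.Chain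
  K189.Ech K189.Trd

theorem factor_of_def {Y : Scheme.{u}} (x : Y) {Ω E : Type u} [Field Ω] [Field E]
    (t' : Spec (CommRingCat.of E) ⟶ Y) (ι : Y.residueField x →+* Ω) (j : E →+* Ω)
    (h : Spec.map (CommRingCat.ofHom j) ≫ t' = Spec.map (CommRingCat.ofHom ι) ≫ Y.fromSpecResidueField x) :
    ∃ φ : Y.residueField x →+* E, ι = j.comp φ := by
  have h1 : im t' = x := by
    have h2 : im (Spec.map (CommRingCat.ofHom j) ≫ t') = im t' := by
      rw [im_map]
      unfold im
      congr 1
      exact Subsingleton.elim _ _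
    rw [← h2, h]
    exact Scheme.fromSpecResidueField_apply x _
  obtain ⟨φ, hφ⟩ := exists_factor t'
  have key : ∀ (y : Y) (_ : y = x) (φ : Y.residueField y ⟶ CommRingCat.of E)
      (_ : Spec.map φ ≫ Y.fromSpecResidueField y = t'),
      ∃ φ : Y.residueField x →+* E, ι = j.comp φ := by
    rintro y rfl φ hφ
    refine ⟨φ.hom, ?_⟩
    have h3 : CommRingCat.ofHom ι = φ ≫ CommRingCat.ofHom j := by
      apply Spec.map_injective
      rw [← cancel_mono (Y.fromSpecResidueField y), ← h, Spec.map_comp, Category.assoc, hφ]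
    exact congrArg (fun F => F.hom) h3
  exact key _ h1 φ hφ

variable {k : Type u} [Field k] {d r n : ℕ} {f g : Fin n → ((Fin d → k) →ₗ[k] (Fin d → k))} {s : k}
  {X : Over (Spec (CommRingCat.of k))}

theorem mapV_push {B C : Type u} [CommRing B] [CommRing C] (ψ : k →+* B) (φ : B →+* C) {j i : ℕ}
    (hj : j ≤ n) (hi : i ≤ n) (v : Fin d → B) :
    mapV φ (push (ext f ψ) (ext g ψ) j i v) =
      push (ext f (φ.comp ψ)) (ext g (φ.comp ψ)) j i (mapV φ v) := by
  let θ : (Fin d → B) →+ (Fin d → C) :=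
    { toFun := mapV φ, map_zero' := mapV_zero φ, map_add' := mapV_add φ }
  exact map_push (n := n) θ (fun i _ x => mapV_ext f ψ φ i x) (fun i _ x => mapV_ext g ψ φ i x) hj hi v

theorem exists_tuple (D : Data X d (d - r) n f g) (hr : r ≤ d)
    (hI : ∀ i, (f i).comp (g i) = s • LinearMap.id ∧ (g i).comp (f i) = s • LinearMap.id)
    {E : Type u} [Field E] (ψ : k →+* E) (τ : Fin r → ℕ) (c : Fin r → Fin d → E)
    (hli : ∀ i ≤ n, LinearIndependent E (fun a => push (ext f ψ) (ext g ψ) (τ a) i (c a))) :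
    ∃ t : Spec (CommRingCat.of E) ⟶ X.left, t ≫ X.hom = Spec.map (CommRingCat.ofHom ψ) ∧
      ∀ i ≤ n, D.L t i = spanT (ext f ψ) (ext g ψ) τ c i := by
  refine D.exists_pt (CommRingCat.ofHom ψ) (fun i => spanT (ext f ψ) (ext g ψ) τ c i) ?_ ?_ ?_
  · intro i hi
    apply isQuotRank_of_finrank
    rw [spanT, finrank_span_eq_card (hli i hi), Fintype.card_fin]
    omega
  · intro i hi
    exact map_F_spanT (ext_comp f g s (fun i => (hI i).1) ψ) hi
  · intro i hi
    exact map_G_spanT (ext_comp g f s (fun i => (hI i).2) ψ) hi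

theorem str_eq {B : CommRingCat.{u}} {t : Spec B ⟶ X.left} {ψ : CommRingCat.of k ⟶ B}
    (h : t ≫ X.hom = Spec.map ψ) : str X t = ψ := by
  apply Spec.map_injective
  rw [map_str, h]

theorem trd_le_aux (D : Data X d (d - r) n f g) (hr : r ≤ d)
    (hI : ∀ i, (f i).comp (g i) = s • LinearMap.id ∧ (g i).comp (f i) = s • LinearMap.id)
    {F : Type u} [Field F] (ψ₀ : k →+* F) (t₀ : Spec (CommRingCat.of F) ⟶ X.left)
    (ht₀ : t₀ ≫ X.hom = Spec.map (CommRingCat.ofHom ψ₀))
    (hfac : ∀ {Ω E : Type u} [Field Ω] [Field E] (t' : Spec (CommRingCat.of E) ⟶ X.left)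
      (ι : F →+* Ω) (j : E →+* Ω),
      Spec.map (CommRingCat.ofHom j) ≫ t' = Spec.map (CommRingCat.ofHom ι) ≫ t₀ →
      ∃ φ : F →+* E, ι = j.comp φ)
    (τ : Fin r → ℕ) (c : Fin r → Fin d → F) (hτ : ∀ a, τ a ≤ n) (hcV : ∀ a, c a ∈ D.L t₀ (τ a))
    (hspan : ∀ i ≤ n, spanT (ext f ψ₀) (ext g ψ₀) τ c i = D.L t₀ i) :
    trd ψ₀ ≤ (r * (d - r) : ℕ) := by
  have hech : ∀ a : Fin r, ∃ (ρ : Fin r → Fin d) (v : Fin r → Fin d → F), (∀ b, v b ∈ D.L t₀ (τ a)) ∧
      (∀ b b', v b (ρ b') = if b = b' then 1 else 0) ∧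
      Submodule.span F (Set.range v) = D.L t₀ (τ a) :=
    fun a => exists_ech (K := F) (D.L t₀ (τ a)) (finrank_L D hr t₀ (hτ a))
  choose ρ v hv hδ hvspan using hech
  let P := MvPolynomial (Fin r × Fin r) F
  let Ω := FractionRing P
  let q : P →+* Ω := algebraMap P Ω
  let C : F →+* P := MvPolynomial.C
  let ι : F →+* Ω := algebraMap F Ω
  have hqC : q.comp C = ι := (IsScalarTower.algebraMap_eq F P Ω).symm
  let c'' : Fin r → Fin d → P := fun a l => ∑ b, MvPolynomial.X (a, b) * C (v a b l)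
  let ev : P →+* F := MvPolynomial.eval (fun ab => c ab.1 (ρ ab.1 ab.2))
  have hevC : ev.comp C = RingHom.id F := by
    ext a
    exact MvPolynomial.eval_C _
  have hev : ∀ a, mapV ev (c'' a) = c a := by
    intro a
    have h1 : c a ∈ bc (RingHom.id F) (D.L t₀ (τ a)) := by
      rw [bc_id]
      exact hcV a
    refine Eq.trans ?_ (eq_sum (RingHom.id F) (hδ a) (hvspan a) h1).symm
    ext l
    simp only [mapV_apply, c'', map_sum, map_mul, ev, C,
      Finset.sum_apply, Pi.smul_apply, smul_eq_mul, RingHom.id_apply]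
    refine Finset.sum_congr rfl fun b _ => ?_
    rw [MvPolynomial.eval_X, MvPolynomial.eval_C]
  let ψP : k →+* P := C.comp ψ₀
  have hψP : ev.comp ψP = ψ₀ := by
    change ev.comp (C.comp ψ₀) = _
    rw [← RingHom.comp_assoc, hevC, RingHom.id_comp]
  let ψΩ : k →+* Ω := ι.comp ψ₀
  have hψΩ : q.comp ψP = ψΩ := by
    change q.comp (C.comp ψ₀) = _
    rw [← RingHom.comp_assoc, hqC]
  let c' : Fin r → Fin d → Ω := fun a => mapV q (c'' a)
  have hqinj : Function.Injective q := IsFractionRing.injective P Ω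
  -- the generic pushes are independent
  have hliΩ : ∀ i ≤ n, LinearIndependent Ω (fun a => push (ext f ψΩ) (ext g ψΩ) (τ a) i (c' a)) := by
    intro i hi
    have h1 : LinearIndependent F
        (fun a => mapV ev (push (ext f ψP) (ext g ψP) (τ a) i (c'' a))) := by
      have h2 : (fun a => mapV ev (push (ext f ψP) (ext g ψP) (τ a) i (c'' a))) =
          fun a => push (ext f ψ₀) (ext g ψ₀) (τ a) i (c a) := by
        funext a
        rw [mapV_push ψP ev (hτ a) hi, hψP, hev]
      rw [h2]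
      exact li_of_span (finrank_L D hr t₀ hi) _ (hspan i hi)
    obtain ⟨b, hb, hb'⟩ := exists_li ev _ h1
    have hqb : q b ≠ 0 := by
      intro h
      apply hb
      rw [hqinj (h.trans (map_zero q).symm), map_zero]
    have h3 := hb' q hqb
    have h4 : (fun a => mapV q (push (ext f ψP) (ext g ψP) (τ a) i (c'' a))) =
        fun a => push (ext f ψΩ) (ext g ψΩ) (τ a) i (c' a) := by
      funext a
      rw [mapV_push ψP q (hτ a) hi, hψΩ]
    rwa [h4] at h3
  -- the field generated by the coordinates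
  let E₀ : Subfield Ω := Subfield.closure (Set.range ψΩ ∪ Set.range (fun al : Fin r × Fin d => c' al.1 al.2))
  have hE₁ : ∀ a, ψΩ a ∈ E₀ := fun a => Subfield.subset_closure (Or.inl ⟨a, rfl⟩)
  have hE₂ : ∀ a l, c' a l ∈ E₀ := fun a l => Subfield.subset_closure (Or.inr ⟨(a, l), rfl⟩)
  let j : E₀ →+* Ω := E₀.subtype
  let ψE : k →+* E₀ := ψΩ.codRestrict E₀ hE₁
  have hjψ : j.comp ψE = ψΩ := by
    ext a
    rfl
  let cE : Fin r → Fin d → E₀ := fun a l => ⟨c' a l, hE₂ a l⟩
  have hjc : ∀ a, mapV j (cE a) = c' a := fun a => rfl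
  have hliE : ∀ i ≤ n, LinearIndependent E₀ (fun a => push (ext f ψE) (ext g ψE) (τ a) i (cE a)) := by
    intro i hi
    rw [← li_map_iff j]
    have h1 : (fun a => mapV j (push (ext f ψE) (ext g ψE) (τ a) i (cE a))) =
        fun a => push (ext f ψΩ) (ext g ψΩ) (τ a) i (c' a) := by
      funext a
      rw [mapV_push ψE j (hτ a) hi, hjψ, hjc]
    rw [h1]
    exact hliΩ i hi
  obtain ⟨t', ht', hL'⟩ := exists_tuple D hr hI ψE τ cE hliE
  -- membership of the generic vectors
  have hc'V : ∀ a, c' a ∈ bc ι (D.L t₀ (τ a)) := by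
    intro a
    have h1 : c' a = ∑ b, q (MvPolynomial.X (a, b)) • mapV ι (v a b) := by
      ext l
      simp only [c', c'', mapV_apply, map_sum, map_mul, Finset.sum_apply, Pi.smul_apply, smul_eq_mul]
      rfl
    rw [h1]
    exact Submodule.sum_mem _ fun b _ => Submodule.smul_mem _ _ (mapV_mem (hv a b))
  have hstr : str X (Spec.map (CommRingCat.ofHom ι) ≫ t₀) = CommRingCat.ofHom ψΩ := by
    apply str_eq
    rw [Category.assoc, ht₀]
    exact (Spec.map_comp _ _).symm
  have hcomp : Spec.map (CommRingCat.ofHom j) ≫ t' = Spec.map (CommRingCat.ofHom ι) ≫ t₀ := by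
    apply D.inj
    · rw [Category.assoc, ht', Category.assoc, ht₀, ← Spec.map_comp, ← Spec.map_comp]
      congr 1
    · intro i hi
      have h1 : D.L (Spec.map (CommRingCat.ofHom j) ≫ t') i =
          Submodule.span Ω (Set.range fun a => push (ext f ψΩ) (ext g ψΩ) (τ a) i (c' a)) := by
        rw [D.nat _ t' i hi, hL' i hi, spanT]
        refine (bc_span' j _).trans ?_
        congr 2
        funext a
        rw [mapV_push ψE j (hτ a) hi, hjψ, hjc]
      rw [h1]
      apply Submodule.eq_of_le_of_finrank_eq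
      · rw [Submodule.span_le]
        rintro _ ⟨a, rfl⟩
        have hlink := linked D (Spec.map (CommRingCat.ofHom ι) ≫ t₀)
        rw [hstr] at hlink
        refine push_mem hlink.hF hlink.hG (hτ a) hi ?_
        rw [D.nat _ t₀ (τ a) (hτ a)]
        exact hc'V a
      · rw [finrank_span_eq_card (hliΩ i hi), Fintype.card_fin, finrank_L D hr _ hi]
  obtain ⟨φ, hφ⟩ := hfac t' ι j hcomp
  -- the field is everything
  have hE₀ : E₀ = ⊤ := by
    apply subfield_eq_top_of_ratfun
    · intro a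
      have h1 := RingHom.congr_fun hφ a
      change ι a ∈ E₀
      rw [h1]
      exact (φ a).2
    · rintro ⟨a, b⟩
      have h1 : c' a (ρ a b) = q (MvPolynomial.X (a, b)) := by
        simp only [c', c'', mapV_apply, hδ]
        congr 1
        rw [Finset.sum_eq_single b]
        · simp
        · intro b' _ hb
          simp [hb]
        · intro h
          exact absurd (Finset.mem_univ _) h
      change q (MvPolynomial.X (a, b)) ∈ E₀
      rw [← h1]
      exact hE₂ a _
  have h1 : trd ψΩ ≤ (r * d : ℕ) := by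
    have h2 := trd_le_of_generated ψΩ (fun al : Fin r × Fin d => c' al.1 al.2) (by
      intro S hS1 hS2
      rw [eq_top_iff, ← hE₀]
      rw [Subfield.closure_le]
      rintro _ (⟨a, rfl⟩ | ⟨al, rfl⟩)
      · exact hS1 ⟨a, rfl⟩
      · exact hS2 al)
    rwa [Fintype.card_prod, Fintype.card_fin, Fintype.card_fin] at h2
  have h2 : trd ψΩ = trd ψ₀ + (r * r : ℕ) := by
    rw [trd_comp, trd_ratfun, Fintype.card_prod, Fintype.card_fin]
  rw [h2] at h1
  obtain ⟨m, hm⟩ := Cardinal.lt_aleph0.1 (((self_le_add_right _ _).trans h1).trans_lt (Cardinal.natCast_lt_aleph0))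
  rw [hm] at h1 ⊢
  have h3 : m + r * r ≤ r * d := by exact_mod_cast h1
  have h4 : m ≤ r * (d - r) := by
    rw [Nat.mul_sub]
    omega
  exact_mod_cast h4

end K189.Upper
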